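import Mathlib
import Cfsg.Agent.Lib.Classical.RootOrbits

/-!
# Element orders of `Sp(8, q)`, `q` even

Every element order divides one of twelve explicit numbers.  The proof works with the multiset of eigenvalues in
an algebraic closure: it has eight members and is invariant under inversion and under `x ↦ x ^ q`.
-/

set_option autoImplicit false
set_option linter.all false

namespace CfsgLib.Classical.MinusEightSpec

open Polynomial Matrix CfsgLib.Classical.RootOrbits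

variable {F : Type*} [Field F] [Fintype F]

local notation "q" => Fintype.card F
local notation "K" => AlgebraicClosure F

/-- The list of bounds. -/
def IsBound (Q t : ℕ) : Prop :=
  t = Q ^ 4 + 1 ∨ t = Q ^ 4 - 1 ∨ t = (Q ^ 3 + 1) * 2 ∨ t = (Q ^ 3 - 1) * 2 ∨
    t = Nat.lcm (Q ^ 3 + 1) (Q - 1) ∨ t = Nat.lcm (Q ^ 3 - 1) (Q + 1) ∨
    t = (Q - 1) * 8 ∨ t = (Q + 1) * 8 ∨ t = (Q ^ 2 - 1) * 4 ∨ t = (Q ^ 2 + 1) * 4 ∨
    t = Nat.lcm (Q ^ 2 + 1) (Q - 1) * 2 ∨ t = Nat.lcm (Q ^ 2 + 1) (Q + 1) * 2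

/-- eigenvalues control the order -/
theorem pow_mul_two_pow [CharP F 2] {ι : Type*} [Fintype ι] [DecidableEq ι] [DecidableEq K] (M : Matrix ι ι F)
    {N e : ℕ} (hN : 0 < N) (h : ∀ a ∈ eig M, a ^ N = 1) (hc : ∀ a, (eig M).count a ≤ 2 ^ e) :
    M ^ (N * 2 ^ e) = 1 := by
  haveI : Fact (Nat.Prime 2) := ⟨Nat.prime_two⟩
  haveI : CharP K 2 := charP_of_injective_algebraMap (algebraMap F K).injective 2
  have hne : ((X : K[X]) ^ N - 1) ≠ 0 := X_pow_sub_C_ne_zero hN (1 : K) |> fun h => by simpa using h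
  refine pow_eq_one_of_dvd M (N := N * 2 ^ e) (h := (X ^ N - 1 : K[X]) ^ 2 ^ e) ?_ ?_
  · rw [Multiset.prod_X_sub_C_dvd_iff_le_roots (pow_ne_zero _ hne), roots_pow, Multiset.le_iff_count]
    intro a
    rw [Multiset.count_nsmul]
    by_cases ha : a ∈ eig M
    · have h1 : 1 ≤ ((X : K[X]) ^ N - 1).roots.count a := by
        rw [Nat.one_le_iff_ne_zero, ← Nat.pos_iff_ne_zero, Multiset.count_pos, mem_roots hne]
        simp [h a ha]
      exact le_trans (hc a) (Nat.le_mul_of_pos_right _ h1)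
    · simp [Multiset.count_eq_zero_of_notMem ha]
  · rw [sub_pow_char_pow, one_pow, ← pow_mul, aeval_X_pow_sub_one]

theorem frob_iter_injective (i : ℕ) : Function.Injective fun b : K => b ^ q ^ i := by
  induction i with
  | zero => intro a b h; simpa using h
  | succ i ih =>
    intro a b h
    simp only [pow_succ, pow_mul] at h
    exact ih (frob_injective h)

theorem pow_sub_one {a : K} (ha : a ≠ 0) {n : ℕ} (hn : 1 ≤ n) (h : a ^ n = a) : a ^ (n - 1) = 1 := by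
  refine mul_right_cancel₀ ha ?_
  rw [← pow_succ, Nat.sub_add_cancel hn, h, one_mul]

theorem pow_add_one {a : K} (ha : a ≠ 0) {n : ℕ} (h : a ^ n = a⁻¹) : a ^ (n + 1) = 1 := by
  rw [pow_succ, h, inv_mul_cancel₀ ha]

theorem self_inv [CharP F 2] {a : K} (ha : a ≠ 0) (h : a = a⁻¹) : a = 1 := by
  haveI : CharP K 2 := charP_of_injective_algebraMap (algebraMap F K).injective 2
  have h1 : a * a = 1 := by
    conv_lhs => arg 2; rw [h]
    exact mul_inv_cancel₀ ha
  rcases mul_self_eq_one_iff.1 h1 with h | h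
  · exact h
  · rw [h, CharTwo.neg_eq]

/-- the data of the orbit of an eigenvalue -/
structure OrbData [DecidableEq K] {ι : Type*} [Fintype ι] [DecidableEq ι] (M : Matrix ι ι F) (a : K) (d : ℕ)
    (O : Finset K) : Prop where
  one_le : 1 ≤ d
  sign : a ^ q ^ d = a ∨ a ^ q ^ d = a⁻¹
  card : O.card = 2 * d
  self_mem : a ∈ O
  count : ∀ x ∈ O, (eig M).count x = (eig M).count a
  not_one : (1 : K) ∉ O
  conj : ∀ x ∈ O, Conj' a x
  pow : ∀ x ∈ O, ∀ N : ℕ, a ^ N = 1 → x ^ N = 1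
  class_eq : ∀ b : K, b ≠ 0 → ∀ i, (b ^ q ^ i ∈ O ∨ (b ^ q ^ i)⁻¹ ∈ O) → (∃ P, 0 < P ∧ b ^ q ^ P = b) → b ∈ O

theorem exists_orbData [CharP F 2] [DecidableEq K] {ι : Type*} [Fintype ι] [DecidableEq ι] (M : Matrix ι ι F)
    (hinv : (eig M).map (·⁻¹) = eig M) {a : K} (ha : a ∈ eig M) (ha0 : a ≠ 0) (ha1 : a ≠ 1) :
    ∃ d O, OrbData M a d O := by
  classical
  have hex : ∃ d, 1 ≤ d ∧ (a ^ q ^ d = a ∨ a ^ q ^ d = a⁻¹) := by
    obtain ⟨P, hP, h⟩ := frob_periodic M ha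
    exact ⟨P, hP, Or.inl h⟩
  obtain ⟨d, hd⟩ : ∃ d, d = Nat.find hex := ⟨_, rfl⟩
  obtain ⟨hd1, hsign⟩ := hd ▸ Nat.find_spec hex
  have hmin : ∀ i, 1 ≤ i → i < d → a ^ q ^ i ≠ a ∧ a ^ q ^ i ≠ a⁻¹ := fun i h1 h2 => by
    have := Nat.find_min hex (m := i) (hd ▸ h2)
    simp only [h1, true_and, not_or] at this
    exact this
  have hstep : ∀ i, (a ^ q ^ i) ^ q = a ^ q ^ (i + 1) := fun i => by rw [← pow_mul, ← pow_succ]
  -- cancel Frobenius
  have hcancel : ∀ i k : ℕ, a ^ q ^ (i + k) = (a ^ q ^ k) ^ q ^ i := fun i k => by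
    rw [← pow_mul, ← pow_add, add_comm]
  have hmemO : ∀ i, a ^ q ^ i ∈ orb' a d ∧ (a ^ q ^ i)⁻¹ ∈ orb' a d := by
    have hlt : ∀ i, i < d → a ^ q ^ i ∈ orb' a d ∧ (a ^ q ^ i)⁻¹ ∈ orb' a d := fun i hi => by
      have h1 : a ^ q ^ i ∈ orb a d := Finset.mem_image.2 ⟨i, Finset.mem_range.2 hi, rfl⟩
      exact ⟨Finset.mem_union_left _ h1, Finset.mem_union_right _ (Finset.mem_image.2 ⟨_, h1, rfl⟩)⟩
    intro i
    induction i using Nat.strong_induction_on with
    | _ i ih =>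
      rcases Nat.lt_or_ge i d with h | h
      · exact hlt i h
      obtain ⟨j, rfl⟩ : ∃ j, i = j + d := ⟨i - d, by omega⟩
      obtain ⟨h1, h2⟩ := ih j (by omega)
      rcases hsign with h3 | h3
      · rw [hcancel, h3]; exact ⟨h1, h2⟩
      · rw [hcancel, h3, inv_pow, inv_inv]; exact ⟨h2, h1⟩
  refine ⟨d, orb' a d, hd1, hsign, ?_, ?_, fun x hx => count_orb' M hinv hx, ?_, fun x hx => mem_orb' hx, ?_, ?_⟩
  · have hinjO : Set.InjOn (fun i => a ^ q ^ i) (Finset.range d : Set ℕ) := by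
      intro i hi j hj h
      simp only [Finset.coe_range, Set.mem_Iio] at hi hj
      simp only at h
      by_contra hne
      rcases Nat.lt_or_ge i j with hij | hij
      · rw [show j = i + (j - i) by omega, hcancel] at h
        exact (hmin (j - i) (by omega) (by omega)).1 (frob_iter_injective i h).symm
      · rw [show i = j + (i - j) by omega, hcancel] at h
        exact (hmin (i - j) (by omega) (by omega)).1 (frob_iter_injective j h)
    have hdisj : Disjoint (orb a d) ((orb a d).image (·⁻¹)) := by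
      rw [Finset.disjoint_left]
      intro x hx hx'
      obtain ⟨i, hi, rfl⟩ := Finset.mem_image.1 hx
      obtain ⟨y, hy, hy'⟩ := Finset.mem_image.1 hx'
      obtain ⟨j, hj, rfl⟩ := Finset.mem_image.1 hy
      rw [Finset.mem_range] at hi hj
      rcases lt_trichotomy i j with hij | rfl | hij
      · rw [show j = i + (j - i) by omega, hcancel, ← inv_pow] at hy'
        have h := frob_iter_injective i hy'
        exact (hmin (j - i) (by omega) (by omega)).2 (inv_injective (h.trans (inv_inv a).symm))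
      · rw [← inv_pow] at hy'
        exact ha1 (self_inv ha0 (frob_iter_injective i hy').symm)
      · rw [show i = j + (i - j) by omega, hcancel, ← inv_pow] at hy'
        exact (hmin (i - j) (by omega) (by omega)).2 (frob_iter_injective j hy').symm
    rw [orb', Finset.card_union_of_disjoint hdisj, Finset.card_image_of_injective _ inv_injective, orb,
      Finset.card_image_of_injOn hinjO, Finset.card_range, two_mul]
  · simpa using (hmemO 0).1
  · intro h1
    rcases mem_orb' h1 with ⟨i, h | h⟩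
    · exact ha1 (frob_iter_injective i (show a ^ q ^ i = (1 : K) ^ q ^ i by rw [one_pow, ← h]))
    · exact ha1 (frob_iter_injective i (show a ^ q ^ i = (1 : K) ^ q ^ i by rw [one_pow, ← _root_.inv_inj, ← h, inv_one]))
  · intro x hx N hN
    rcases mem_orb' hx with ⟨i, rfl | rfl⟩
    · rw [← pow_mul, mul_comm, pow_mul, hN, one_pow]
    · rw [inv_pow, ← pow_mul, mul_comm, pow_mul, hN, one_pow, inv_one]
  · intro b hb i hbi hper
    obtain ⟨P, hP, hbP⟩ := hper
    -- some Frobenius power of an element of the orbit is `b ^ ±1`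
    have hclosed : ∀ x ∈ orb' a d, ∀ k, x ^ q ^ k ∈ orb' a d ∧ x⁻¹ ^ q ^ k ∈ orb' a d := by
      intro x hx k
      rcases mem_orb' hx with ⟨j, rfl | rfl⟩
      · rw [inv_pow, ← hcancel]; exact hmemO _
      · rw [inv_inv, inv_pow, ← hcancel]; exact (hmemO _).symm
    have hper' : ∀ m : ℕ, b ^ q ^ (P * m) = b := fun m => by
      induction m with
      | zero => simp
      | succ m ih => rw [Nat.mul_succ, pow_add, pow_mul, ih, hbP]
    have hback : (b ^ q ^ i) ^ q ^ (P * i - i) = b := by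
      rw [← pow_mul, ← pow_add, Nat.add_sub_cancel' (Nat.le_mul_of_pos_left i hP), hper']
    rcases hbi with h | h
    · have := (hclosed _ h (P * i - i)).1
      rwa [hback] at this
    · have := (hclosed _ h (P * i - i)).2
      rwa [inv_inv, hback] at this

section symp

local notation "SP8" => Matrix.symplecticGroup (Fin 4) F

theorem ne_zero_eig [CharP F 2] [DecidableEq (AlgebraicClosure F)] (A : SP8) {a : K} (ha : a ∈ (eig (A : Matrix (Fin 4 ⊕ Fin 4) (Fin 4 ⊕ Fin 4) F))) : a ≠ 0 := by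
  intro h
  subst h
  have hd : IsUnit (A : Matrix (Fin 4 ⊕ Fin 4) (Fin 4 ⊕ Fin 4) F).det :=
    (Matrix.isUnit_iff_isUnit_det _).1 (IsUnit.of_mul_eq_one _ (congrArg Subtype.val (mul_inv_cancel A)))
  have h := prod_eig (A : Matrix (Fin 4 ⊕ Fin 4) (Fin 4 ⊕ Fin 4) F)
  rw [Multiset.prod_eq_zero ha, map_eq_zero] at h
  exact hd.ne_zero h

theorem orb_exists [CharP F 2] [DecidableEq (AlgebraicClosure F)] (A : SP8) {a : K} (ha : a ∈ (eig (A : Matrix (Fin 4 ⊕ Fin 4) (Fin 4 ⊕ Fin 4) F))) (ha1 : a ≠ 1) : ∃ d O, OrbData (A : Matrix (Fin 4 ⊕ Fin 4) (Fin 4 ⊕ Fin 4) F) a d O :=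
  exists_orbData _ (eig_inv_symplectic A) ha (ne_zero_eig A ha) ha1

theorem orb_disjoint [CharP F 2] [DecidableEq (AlgebraicClosure F)] (A : SP8) {a b : K} {d e : ℕ} {O P : Finset K} (hO : OrbData (A : Matrix (Fin 4 ⊕ Fin 4) (Fin 4 ⊕ Fin 4) F) a d O) (hP : OrbData (A : Matrix (Fin 4 ⊕ Fin 4) (Fin 4 ⊕ Fin 4) F) b e P) (hb : b ∈ (eig (A : Matrix (Fin 4 ⊕ Fin 4) (Fin 4 ⊕ Fin 4) F)))
    (hbO : b ∉ O) : Disjoint O P := by
  rw [Finset.disjoint_left]
  intro x hxO hxP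
  refine hbO ?_
  have hb0 := ne_zero_eig A hb
  rcases hP.conj x hxP with ⟨i, h | h⟩
  · exact hO.class_eq b hb0 i (Or.inl (h ▸ hxO)) (frob_periodic _ hb)
  · exact hO.class_eq b hb0 i (Or.inr (h ▸ hxO)) (frob_periodic _ hb)

theorem count_one_even [CharP F 2] [DecidableEq (AlgebraicClosure F)] (A : SP8) : Even (Multiset.count (1 : K) (eig (A : Matrix (Fin 4 ⊕ Fin 4) (Fin 4 ⊕ Fin 4) F))) := by
  have hinv := eig_inv_symplectic A
  have hsum : ∑ x ∈ (Multiset.toFinset (eig (A : Matrix (Fin 4 ⊕ Fin 4) (Fin 4 ⊕ Fin 4) F))), Multiset.count x (eig (A : Matrix (Fin 4 ⊕ Fin 4) (Fin 4 ⊕ Fin 4) F)) = 8 := by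
    rw [Multiset.toFinset_sum_count_eq, card_eig]; rfl
  have h2 : ((∑ x ∈ (Multiset.toFinset (eig (A : Matrix (Fin 4 ⊕ Fin 4) (Fin 4 ⊕ Fin 4) F))).erase 1, Multiset.count x (eig (A : Matrix (Fin 4 ⊕ Fin 4) (Fin 4 ⊕ Fin 4) F)) : ℕ) : ZMod 2) = 0 := by
    rw [Nat.cast_sum]
    refine Finset.sum_involution (fun x _ => x⁻¹) (fun x hx => ?_) (fun x hx _ h => ?_) (fun x hx => ?_)
      (fun x _ => inv_inv x)
    · rw [count_inv _ hinv]
      exact CharTwo.add_self_eq_zero _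
    · rw [Finset.mem_erase, Multiset.mem_toFinset] at hx
      exact hx.1 (self_inv (ne_zero_eig A hx.2) h.symm)
    · rw [Finset.mem_erase, Multiset.mem_toFinset] at hx ⊢
      refine ⟨inv_ne_one.2 hx.1, ?_⟩
      rw [← Multiset.count_pos, count_inv _ hinv]
      exact Multiset.count_pos.2 hx.2
  rw [ZMod.natCast_eq_zero_iff_even] at h2
  by_cases h1 : (1 : K) ∈ (Multiset.toFinset (eig (A : Matrix (Fin 4 ⊕ Fin 4) (Fin 4 ⊕ Fin 4) F)))
  · rw [← Finset.add_sum_erase _ _ h1] at hsum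
    obtain ⟨k, hk⟩ := h2
    exact ⟨4 - k, by omega⟩
  · rw [Multiset.mem_toFinset] at h1
    rw [Multiset.count_eq_zero_of_notMem h1]
    exact Even.zero

theorem sum_le [CharP F 2] [DecidableEq (AlgebraicClosure F)] (A : SP8) (T : Finset K) : ∑ x ∈ T, Multiset.count x (eig (A : Matrix (Fin 4 ⊕ Fin 4) (Fin 4 ⊕ Fin 4) F)) ≤ 8 :=
  le_of_le_of_eq (card_le _ (fun x => Multiset.count x (eig (A : Matrix (Fin 4 ⊕ Fin 4) (Fin 4 ⊕ Fin 4) F))) fun x _ => le_rfl) rfl

theorem orb_sum [CharP F 2] [DecidableEq (AlgebraicClosure F)] (A : SP8) {a : K} {d : ℕ} {O : Finset K} (hO : OrbData (A : Matrix (Fin 4 ⊕ Fin 4) (Fin 4 ⊕ Fin 4) F) a d O) : ∑ x ∈ O, Multiset.count x (eig (A : Matrix (Fin 4 ⊕ Fin 4) (Fin 4 ⊕ Fin 4) F)) = 2 * d * Multiset.count a (eig (A : Matrix (Fin 4 ⊕ Fin 4) (Fin 4 ⊕ Fin 4) F)) := by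
  rw [Finset.sum_congr rfl hO.count, Finset.sum_const, hO.card, smul_eq_mul]

theorem weight_one [CharP F 2] [DecidableEq (AlgebraicClosure F)] (A : SP8) {a : K} {d : ℕ} {O : Finset K} (hO : OrbData (A : Matrix (Fin 4 ⊕ Fin 4) (Fin 4 ⊕ Fin 4) F) a d O) :
    Multiset.count (1 : K) (eig (A : Matrix (Fin 4 ⊕ Fin 4) (Fin 4 ⊕ Fin 4) F)) + 2 * d * Multiset.count a (eig (A : Matrix (Fin 4 ⊕ Fin 4) (Fin 4 ⊕ Fin 4) F)) ≤ 8 := by
  have h := sum_le A (insert 1 O)
  rw [Finset.sum_insert hO.not_one, orb_sum A hO] at h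
  exact h

theorem weight_two [CharP F 2] [DecidableEq (AlgebraicClosure F)] (A : SP8) {a b : K} {d e : ℕ} {O P : Finset K} (hO : OrbData (A : Matrix (Fin 4 ⊕ Fin 4) (Fin 4 ⊕ Fin 4) F) a d O) (hP : OrbData (A : Matrix (Fin 4 ⊕ Fin 4) (Fin 4 ⊕ Fin 4) F) b e P) (hb : b ∈ (eig (A : Matrix (Fin 4 ⊕ Fin 4) (Fin 4 ⊕ Fin 4) F)))
    (hbO : b ∉ O) : Multiset.count (1 : K) (eig (A : Matrix (Fin 4 ⊕ Fin 4) (Fin 4 ⊕ Fin 4) F)) + 2 * d * Multiset.count a (eig (A : Matrix (Fin 4 ⊕ Fin 4) (Fin 4 ⊕ Fin 4) F)) + 2 * e * Multiset.count b (eig (A : Matrix (Fin 4 ⊕ Fin 4) (Fin 4 ⊕ Fin 4) F)) ≤ 8 := by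
  have h := sum_le A (insert 1 (O ∪ P))
  rw [Finset.sum_insert (by simp [hO.not_one, hP.not_one]), Finset.sum_union (orb_disjoint A hO hP hb hbO),
    orb_sum A hO, orb_sum A hP] at h
  omega

theorem weight_three [CharP F 2] [DecidableEq (AlgebraicClosure F)] (A : SP8) {a b c : K} {d e f : ℕ} {O P R : Finset K} (hO : OrbData (A : Matrix (Fin 4 ⊕ Fin 4) (Fin 4 ⊕ Fin 4) F) a d O) (hP : OrbData (A : Matrix (Fin 4 ⊕ Fin 4) (Fin 4 ⊕ Fin 4) F) b e P) (hR : OrbData (A : Matrix (Fin 4 ⊕ Fin 4) (Fin 4 ⊕ Fin 4) F) c f R)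
    (hb : b ∈ (eig (A : Matrix (Fin 4 ⊕ Fin 4) (Fin 4 ⊕ Fin 4) F))) (hbO : b ∉ O) (hc : c ∈ (eig (A : Matrix (Fin 4 ⊕ Fin 4) (Fin 4 ⊕ Fin 4) F))) (hcO : c ∉ O) (hcP : c ∉ P) :
    Multiset.count (1 : K) (eig (A : Matrix (Fin 4 ⊕ Fin 4) (Fin 4 ⊕ Fin 4) F)) + 2 * d * Multiset.count a (eig (A : Matrix (Fin 4 ⊕ Fin 4) (Fin 4 ⊕ Fin 4) F)) + 2 * e * Multiset.count b (eig (A : Matrix (Fin 4 ⊕ Fin 4) (Fin 4 ⊕ Fin 4) F)) + 2 * f * Multiset.count c (eig (A : Matrix (Fin 4 ⊕ Fin 4) (Fin 4 ⊕ Fin 4) F)) ≤ 8 := by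
  have h := sum_le A (insert 1 ((O ∪ P) ∪ R))
  rw [Finset.sum_insert (by simp [hO.not_one, hP.not_one, hR.not_one]),
    Finset.sum_union (Finset.disjoint_union_left.2 ⟨orb_disjoint A hO hR hc hcO, orb_disjoint A hP hR hc hcP⟩),
    Finset.sum_union (orb_disjoint A hO hP hb hbO), orb_sum A hO, orb_sum A hP, orb_sum A hR] at h
  omega

theorem q_even [CharP F 2] : Even q := by
  rw [even_iff_two_dvd, ← CharP.cast_eq_zero_iff F 2]
  exact FiniteField.cast_card_eq_zero F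

theorem two_le_q  : 2 ≤ q := Fintype.one_lt_card

/-- a sign gives an exponent -/
theorem orb_exponent [CharP F 2] [DecidableEq (AlgebraicClosure F)] (A : SP8) {a : K} {d : ℕ} {O : Finset K} (hO : OrbData (A : Matrix (Fin 4 ⊕ Fin 4) (Fin 4 ⊕ Fin 4) F) a d O) (ha : a ∈ (eig (A : Matrix (Fin 4 ⊕ Fin 4) (Fin 4 ⊕ Fin 4) F))) :
    a ^ (q ^ d - 1) = 1 ∨ a ^ (q ^ d + 1) = 1 :=
  hO.sign.imp (pow_sub_one (ne_zero_eig A ha) (Nat.one_le_pow _ _ Fintype.card_pos))
    (pow_add_one (ne_zero_eig A ha))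

theorem pow_of_dvd  {a : K} {n N : ℕ} (h : n ∣ N) (ha : a ^ n = 1) : a ^ N = 1 := by
  obtain ⟨k, rfl⟩ := h
  rw [pow_mul, ha, one_pow]

theorem finish [CharP F 2] [DecidableEq (AlgebraicClosure F)] (A : SP8) {N : ℕ} (e : ℕ) (hN : 0 < N) (hB : IsBound q (N * 2 ^ e))
    (h : ∀ a ∈ (eig (A : Matrix (Fin 4 ⊕ Fin 4) (Fin 4 ⊕ Fin 4) F)), a ≠ 1 → a ^ N = 1) (hc : ∀ a, Multiset.count a (eig (A : Matrix (Fin 4 ⊕ Fin 4) (Fin 4 ⊕ Fin 4) F)) ≤ 2 ^ e) :
    ∃ t, IsBound q t ∧ A ^ t = 1 :=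
  ⟨_, hB, Subtype.ext (by
    rw [SubmonoidClass.coe_pow, pow_mul_two_pow _ hN (fun a ha => ?_) hc]
    · rfl
    · by_cases h1 : a = 1
      · rw [h1, one_pow]
      · exact h a ha h1)⟩

/-- every element order divides a number of the list -/
theorem exists_bound [CharP F 2] [DecidableEq (AlgebraicClosure F)] (A : SP8) : ∃ t, IsBound q t ∧ A ^ t = 1 := by
  classical
  obtain ⟨Q, hQ⟩ : ∃ Q, Q = q := ⟨_, rfl⟩
  have hQ2 : 2 ≤ Q := hQ ▸ two_le_q (F := F)
  have h2 : 4 ≤ Q ^ 2 := le_trans (by norm_num) (Nat.pow_le_pow_left hQ2 2)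
  have h3 : 8 ≤ Q ^ 3 := le_trans (by norm_num) (Nat.pow_le_pow_left hQ2 3)
  have h4 : 16 ≤ Q ^ 4 := le_trans (by norm_num) (Nat.pow_le_pow_left hQ2 4)
  -- a class of length four
  by_cases hex4 : ∃ a ∈ (eig (A : Matrix (Fin 4 ⊕ Fin 4) (Fin 4 ⊕ Fin 4) F)), a ≠ 1 ∧ ∃ d O, OrbData (A : Matrix (Fin 4 ⊕ Fin 4) (Fin 4 ⊕ Fin 4) F) a d O ∧ 4 ≤ d
  · obtain ⟨a, ha, ha1, d, O, hO, hd⟩ := hex4
    have hca := Multiset.count_pos.2 ha
    have hw := weight_one A hO
    have hd4 : d = 4 := by nlinarith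
    subst hd4
    have hall : ∀ x ∈ (eig (A : Matrix (Fin 4 ⊕ Fin 4) (Fin 4 ⊕ Fin 4) F)), x ≠ 1 → x ∈ O := fun x hx hx1 => by
      by_contra hxO
      obtain ⟨e, P, hP⟩ := orb_exists A hx hx1
      have := weight_two A hO hP hx hxO
      have := Multiset.count_pos.2 hx
      have := hP.one_le
      nlinarith
    have hc : ∀ x, Multiset.count x (eig (A : Matrix (Fin 4 ⊕ Fin 4) (Fin 4 ⊕ Fin 4) F)) ≤ 2 ^ 0 := fun x => by
      by_cases hx : x ∈ (eig (A : Matrix (Fin 4 ⊕ Fin 4) (Fin 4 ⊕ Fin 4) F))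
      · by_cases hx1 : x = 1
        · subst hx1; simp only [pow_zero]; omega
        · rw [hO.count x (hall x hx hx1)]; simp only [pow_zero]; omega
      · simp [Multiset.count_eq_zero_of_notMem hx]
    rcases orb_exponent A hO ha with h | h
    · exact finish A 0 (by rw [← hQ]; omega) (Or.inr (Or.inl (mul_one _)))
        (fun x hx hx1 => hO.pow x (hall x hx hx1) _ h) hc
    · exact finish A 0 (by omega) (Or.inl (mul_one _)) (fun x hx hx1 => hO.pow x (hall x hx hx1) _ h) hc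
  push Not at hex4
  -- a class of length three
  by_cases hex3 : ∃ a ∈ (eig (A : Matrix (Fin 4 ⊕ Fin 4) (Fin 4 ⊕ Fin 4) F)), a ≠ 1 ∧ ∃ O, OrbData (A : Matrix (Fin 4 ⊕ Fin 4) (Fin 4 ⊕ Fin 4) F) a 3 O
  · obtain ⟨a, ha, ha1, O, hO⟩ := hex3
    have hca := Multiset.count_pos.2 ha
    have hw := weight_one A hO
    have hca1 : Multiset.count a (eig (A : Matrix (Fin 4 ⊕ Fin 4) (Fin 4 ⊕ Fin 4) F)) = 1 := by omega
    by_cases hother : ∃ b ∈ (eig (A : Matrix (Fin 4 ⊕ Fin 4) (Fin 4 ⊕ Fin 4) F)), b ≠ 1 ∧ b ∉ O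
    · obtain ⟨b, hb, hb1, hbO⟩ := hother
      obtain ⟨e, P, hP⟩ := orb_exists A hb hb1
      have hcb := Multiset.count_pos.2 hb
      have hw2 := weight_two A hO hP hb hbO
      have he := hP.one_le
      have hecb : e * Multiset.count b (eig (A : Matrix (Fin 4 ⊕ Fin 4) (Fin 4 ⊕ Fin 4) F)) = 1 := by nlinarith
      have he1 : e = 1 := Nat.eq_one_of_mul_eq_one_right hecb
      subst he1
      have hall : ∀ x ∈ (eig (A : Matrix (Fin 4 ⊕ Fin 4) (Fin 4 ⊕ Fin 4) F)), x ≠ 1 → x ∈ O ∨ x ∈ P := fun x hx hx1 => by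
        by_contra hxx
        push Not at hxx
        obtain ⟨f, R, hR⟩ := orb_exists A hx hx1
        have := weight_three A hO hP hR hb hbO hx hxx.1 hxx.2
        have := Multiset.count_pos.2 hx
        have := hR.one_le
        nlinarith
      have hc : ∀ x, Multiset.count x (eig (A : Matrix (Fin 4 ⊕ Fin 4) (Fin 4 ⊕ Fin 4) F)) ≤ 2 ^ 0 := fun x => by
        simp only [pow_zero]
        by_cases hx : x ∈ (eig (A : Matrix (Fin 4 ⊕ Fin 4) (Fin 4 ⊕ Fin 4) F))
        · by_cases hx1 : x = 1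
          · subst hx1; omega
          · rcases hall x hx hx1 with h | h
            · rw [hO.count x h]; omega
            · rw [hP.count x h]; omega
        · simp [Multiset.count_eq_zero_of_notMem hx]
      have key : ∀ N, a ^ N = 1 → b ^ N = 1 → ∀ x ∈ (eig (A : Matrix (Fin 4 ⊕ Fin 4) (Fin 4 ⊕ Fin 4) F)), x ≠ 1 → x ^ N = 1 := fun N h1 h2 x hx hx1 =>
        (hall x hx hx1).elim (fun h => hO.pow x h N h1) (fun h => hP.pow x h N h2)
      have hc' : ∀ x, Multiset.count x (eig (A : Matrix (Fin 4 ⊕ Fin 4) (Fin 4 ⊕ Fin 4) F)) ≤ 2 ^ 1 := fun x => (hc x).trans (by norm_num)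
      rcases orb_exponent A hO ha with h | h <;> rcases orb_exponent A hP hb with h' | h' <;>
        rw [pow_one] at h'
      · exact finish A 1 (by rw [← hQ]; omega) (by unfold IsBound; simp)
          (key _ h (pow_of_dvd (by simpa using Nat.sub_dvd_pow_sub_pow q 1 3) h')) hc'
      · exact finish A 0 (Nat.lcm_pos (by rw [← hQ]; omega) (by omega)) (by unfold IsBound; simp)
          (key (Nat.lcm (q ^ 3 - 1) (q + 1)) (pow_of_dvd (Nat.dvd_lcm_left _ _) h)
            (pow_of_dvd (Nat.dvd_lcm_right _ _) h')) hc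
      · exact finish A 0 (Nat.lcm_pos (by omega) (by rw [← hQ]; omega)) (by unfold IsBound; simp)
          (key (Nat.lcm (q ^ 3 + 1) (q - 1)) (pow_of_dvd (Nat.dvd_lcm_left _ _) h)
            (pow_of_dvd (Nat.dvd_lcm_right _ _) h')) hc
      · exact finish A 1 (by omega) (by unfold IsBound; simp)
          (key _ h (pow_of_dvd (by simpa using Odd.nat_add_dvd_pow_add_pow q 1 (n := 3) (by decide)) h')) hc'
    · push Not at hother
      have hc : ∀ x, Multiset.count x (eig (A : Matrix (Fin 4 ⊕ Fin 4) (Fin 4 ⊕ Fin 4) F)) ≤ 2 ^ 1 := fun x => by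
        simp only [pow_one]
        by_cases hx : x ∈ (eig (A : Matrix (Fin 4 ⊕ Fin 4) (Fin 4 ⊕ Fin 4) F))
        · by_cases hx1 : x = 1
          · subst hx1; omega
          · rw [hO.count x (hother x hx hx1)]; omega
        · simp [Multiset.count_eq_zero_of_notMem hx]
      rcases orb_exponent A hO ha with h | h
      · exact finish A 1 (by rw [← hQ]; omega) (by unfold IsBound; simp)
          (fun x hx hx1 => hO.pow x (hother x hx hx1) _ h) hc
      · exact finish A 1 (by omega) (by unfold IsBound; simp) (fun x hx hx1 => hO.pow x (hother x hx hx1) _ h) hc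
  push Not at hex3
  -- classes of length at most two
  have hle2 : ∀ x ∈ (eig (A : Matrix (Fin 4 ⊕ Fin 4) (Fin 4 ⊕ Fin 4) F)), x ≠ 1 → ∀ d O, OrbData (A : Matrix (Fin 4 ⊕ Fin 4) (Fin 4 ⊕ Fin 4) F) x d O → d ≤ 2 := fun x hx hx1 d O hO => by
    have := hex4 x hx hx1 d O hO
    by_contra h
    obtain rfl : d = 3 := by omega
    exact hex3 x hx hx1 O hO
  have hq4 : ∀ x ∈ (eig (A : Matrix (Fin 4 ⊕ Fin 4) (Fin 4 ⊕ Fin 4) F)), x ≠ 1 → x ^ (q ^ 2 - 1) = 1 ∨ x ^ (q ^ 2 + 1) = 1 := fun x hx hx1 => by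
    obtain ⟨d, O, hO⟩ := orb_exists A hx hx1
    have := hO.one_le
    have := hle2 x hx hx1 d O hO
    rcases (show d = 1 ∨ d = 2 by omega) with rfl | rfl
    · left
      rcases orb_exponent A hO hx with h | h
      · exact pow_of_dvd (by simpa using Nat.sub_dvd_pow_sub_pow q 1 2) h
      · refine pow_of_dvd ?_ h
        rw [pow_one]
        exact ⟨q - 1, by rw [← Nat.sq_sub_sq, one_pow]⟩
    · exact orb_exponent A hO hx
  have hmulid : (Q ^ 2 - 1) * (Q ^ 2 + 1) = Q ^ 4 - 1 := by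
    rw [mul_comm, ← Nat.sq_sub_sq, one_pow, ← pow_mul]
  -- multiplicity free
  by_cases hfree : ∀ x, Multiset.count x (eig (A : Matrix (Fin 4 ⊕ Fin 4) (Fin 4 ⊕ Fin 4) F)) ≤ 1
  · refine finish A 0 (N := q ^ 4 - 1) (by rw [← hQ]; omega) (by unfold IsBound; simp) (fun x hx hx1 => ?_)
      (fun x => by simpa using hfree x)
    rw [← hQ, ← hmulid]
    rcases hq4 x hx hx1 with h | h <;> rw [← hQ] at h
    · exact pow_of_dvd (dvd_mul_right _ _) h
    · exact pow_of_dvd (dvd_mul_left _ _) h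
  push Not at hfree
  obtain ⟨y, hy⟩ := hfree
  have hev := count_one_even A
  by_cases hsmall : ∀ x ∈ (eig (A : Matrix (Fin 4 ⊕ Fin 4) (Fin 4 ⊕ Fin 4) F)), x ≠ 1 → x ^ (q ^ 2 - 1) = 1
  · by_cases h5 : 5 ≤ Multiset.count (1 : K) (eig (A : Matrix (Fin 4 ⊕ Fin 4) (Fin 4 ⊕ Fin 4) F))
    · have h6 : 6 ≤ Multiset.count (1 : K) (eig (A : Matrix (Fin 4 ⊕ Fin 4) (Fin 4 ⊕ Fin 4) F)) := by obtain ⟨k, hk⟩ := hev; omega
      have hc8 : ∀ x, Multiset.count x (eig (A : Matrix (Fin 4 ⊕ Fin 4) (Fin 4 ⊕ Fin 4) F)) ≤ 2 ^ 3 := fun x => by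
        have := sum_le A {x}
        simpa using this
      by_cases hb : ∃ b ∈ (eig (A : Matrix (Fin 4 ⊕ Fin 4) (Fin 4 ⊕ Fin 4) F)), b ≠ 1
      · obtain ⟨b, hb, hb1⟩ := hb
        obtain ⟨e, P, hP⟩ := orb_exists A hb hb1
        have hcb := Multiset.count_pos.2 hb
        have hw := weight_one A hP
        have he := hP.one_le
        have he1 : e = 1 := by nlinarith
        subst he1
        have hall : ∀ x ∈ (eig (A : Matrix (Fin 4 ⊕ Fin 4) (Fin 4 ⊕ Fin 4) F)), x ≠ 1 → x ∈ P := fun x hx hx1 => by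
          by_contra hxP
          obtain ⟨f, R, hR⟩ := orb_exists A hx hx1
          have := weight_two A hP hR hx hxP
          have := Multiset.count_pos.2 hx
          have := hR.one_le
          nlinarith
        rcases orb_exponent A hP hb with h | h <;> rw [pow_one] at h
        · exact finish A 3 (by rw [← hQ]; omega) (by unfold IsBound; simp)
            (fun x hx hx1 => hP.pow x (hall x hx hx1) _ h) hc8
        · exact finish A 3 (by omega) (by unfold IsBound; simp) (fun x hx hx1 => hP.pow x (hall x hx hx1) _ h) hc8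
      · push Not at hb
        exact finish A 3 (N := q - 1) (by rw [← hQ]; omega) (by unfold IsBound; simp)
          (fun x hx hx1 => absurd (hb x hx) hx1) hc8
    · refine finish A 2 (by rw [← hQ]; omega) (by unfold IsBound; simp) hsmall fun x => ?_
      simp only [show (2 : ℕ) ^ 2 = 4 by norm_num]
      by_cases hx : x ∈ (eig (A : Matrix (Fin 4 ⊕ Fin 4) (Fin 4 ⊕ Fin 4) F))
      · by_cases hx1 : x = 1
        · subst hx1; omega
        · obtain ⟨d, O, hO⟩ := orb_exists A hx hx1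
          have := weight_one A hO
          have := hO.one_le
          nlinarith
      · simp [Multiset.count_eq_zero_of_notMem hx]
  push Not at hsmall
  obtain ⟨a, ha, ha1, haN⟩ := hsmall
  obtain ⟨d, O, hO⟩ := orb_exists A ha ha1
  have hca := Multiset.count_pos.2 ha
  have hd2 : d = 2 := by
    have := hle2 a ha ha1 d O hO
    have := hO.one_le
    by_contra hne
    obtain rfl : d = 1 := by omega
    refine haN ?_
    rcases orb_exponent A hO ha with h | h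
    · exact pow_of_dvd (by simpa using Nat.sub_dvd_pow_sub_pow q 1 2) h
    · refine pow_of_dvd ?_ h
      rw [pow_one]
      exact ⟨q - 1, by rw [← Nat.sq_sub_sq, one_pow]⟩
  subst hd2
  have haP : a ^ (q ^ 2 + 1) = 1 := (hq4 a ha ha1).resolve_left haN
  have hw := weight_one A hO
  by_cases hplus : ∀ x ∈ (eig (A : Matrix (Fin 4 ⊕ Fin 4) (Fin 4 ⊕ Fin 4) F)), x ≠ 1 → x ^ (q ^ 2 + 1) = 1
  · refine finish A 2 (by omega) (by unfold IsBound; simp) hplus fun x => ?_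
    simp only [show (2 : ℕ) ^ 2 = 4 by norm_num]
    by_cases hx : x ∈ (eig (A : Matrix (Fin 4 ⊕ Fin 4) (Fin 4 ⊕ Fin 4) F))
    · by_cases hx1 : x = 1
      · subst hx1; omega
      · obtain ⟨d, P, hP⟩ := orb_exists A hx hx1
        have := weight_one A hP
        have := hP.one_le
        nlinarith
    · simp [Multiset.count_eq_zero_of_notMem hx]
  push Not at hplus
  obtain ⟨b, hb, hb1, hbN⟩ := hplus
  have hbO : b ∉ O := fun h => hbN (hO.pow b h _ haP)
  obtain ⟨e, P, hP⟩ := orb_exists A hb hb1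
  have hcb := Multiset.count_pos.2 hb
  have hw2 := weight_two A hO hP hb hbO
  have hy0 : y ∈ (eig (A : Matrix (Fin 4 ⊕ Fin 4) (Fin 4 ⊕ Fin 4) F)) := Multiset.count_pos.1 (by omega)
  -- no class of length two beside the first one, and at most two classes
  have hyOP : y = 1 ∨ y ∈ O ∨ y ∈ P := by
    by_contra hyy
    push Not at hyy
    obtain ⟨f, R, hR⟩ := orb_exists A hy0 hyy.1
    have := weight_three A hO hP hR hb hbO hy0 hyy.2.1 hyy.2.2
    have := hR.one_le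
    have := hP.one_le
    nlinarith
  have he1 : e = 1 := by
    have := hle2 b hb hb1 e P hP
    have := hP.one_le
    by_contra hne
    obtain rfl : e = 2 := by omega
    rcases hyOP with h | h | h
    · subst h; omega
    · rw [hO.count y h] at hy; omega
    · rw [hP.count y h] at hy; omega
  subst he1
  have hall : ∀ x ∈ (eig (A : Matrix (Fin 4 ⊕ Fin 4) (Fin 4 ⊕ Fin 4) F)), x ≠ 1 → x ∈ O ∨ x ∈ P := fun x hx hx1 => by
    by_contra hxx
    push Not at hxx
    obtain ⟨f, R, hR⟩ := orb_exists A hx hx1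
    have := weight_three A hO hP hR hb hbO hx hxx.1 hxx.2
    have := Multiset.count_pos.2 hx
    have := hR.one_le
    rcases hyOP with h | h | h
    · subst h; nlinarith
    · rw [hO.count y h] at hy; nlinarith
    · rw [hP.count y h] at hy; nlinarith
  have hc : ∀ x, Multiset.count x (eig (A : Matrix (Fin 4 ⊕ Fin 4) (Fin 4 ⊕ Fin 4) F)) ≤ 2 ^ 1 := fun x => by
    simp only [pow_one]
    by_cases hx : x ∈ (eig (A : Matrix (Fin 4 ⊕ Fin 4) (Fin 4 ⊕ Fin 4) F))
    · by_cases hx1 : x = 1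
      · subst hx1; omega
      · rcases hall x hx hx1 with h | h
        · rw [hO.count x h]; omega
        · rw [hP.count x h]; omega
    · simp [Multiset.count_eq_zero_of_notMem hx]
  have key : ∀ n, b ^ n = 1 → ∀ x ∈ (eig (A : Matrix (Fin 4 ⊕ Fin 4) (Fin 4 ⊕ Fin 4) F)), x ≠ 1 → x ^ Nat.lcm (q ^ 2 + 1) n = 1 := fun n hn x hx hx1 =>
    (hall x hx hx1).elim (fun h => pow_of_dvd (Nat.dvd_lcm_left _ _) (hO.pow x h _ haP))
      (fun h => pow_of_dvd (Nat.dvd_lcm_right _ _) (hP.pow x h _ hn))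
  rcases orb_exponent A hP hb with h | h <;> rw [pow_one] at h
  · exact finish A 1 (Nat.lcm_pos (by omega) (by rw [← hQ]; omega)) (by unfold IsBound; simp) (key _ h) hc
  · exact finish A 1 (Nat.lcm_pos (by omega) (by omega)) (by unfold IsBound; simp) (key _ h) hc

end symp

end CfsgLib.Classical.MinusEightSpec
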