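import Mathlib
import Cfsg.Agent.Lib.Perm.Elusive.OrthTypes
import Cfsg.Agent.Lib.Perm.Elusive.OrthSemisimple
import Cfsg.Agent.Lib.Perm.Elusive.OrthStd

/-!
# Orthogonal groups in characteristic two: isometries of large order

`Has ε h N` says that some nondegenerate quadratic space of dimension `2 * h` and of the type `ε` has an isometry
of order divisible by `N`.  There are tori, unipotent elements of order `2`, `4`, `8`, and orthogonal sums.
-/

set_option autoImplicit false
set_option linter.all false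

namespace CfsgLib.Classical.MinusEightSpec

open CfsgLib.Perm.Elusive CfsgLib.Classical

section types

variable {F : Type*} [Field F] [Fintype F]
variable {U : Type*} [AddCommGroup U] [Module F U] [FiniteDimensional F U]
variable {V : Type*} [AddCommGroup V] [Module F V] [FiniteDimensional F V]

theorem qplus_range {Q : QuadraticForm F V} {S : QuadraticForm F U} (L : U →ₗ[F] V) (hi : Function.Injective L)
    (hL : ∀ v, Q (L v) = S v) : QPlus Q (LinearMap.range L) ↔ QPlus S ⊤ := by
  constructor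
  · rintro ⟨X, hX, hX0, hXd⟩
    refine ⟨X.comap L, le_top, fun u hu => (hL u).symm.trans (hX0 _ hu), ?_⟩
    have h1 : (X.comap L).map L = X := Submodule.map_comap_eq_of_le hX
    have h2 : Module.finrank F ((X.comap L).map L : Submodule F V) = Module.finrank F (X.comap L) :=
      ((Submodule.equivMapOfInjective L hi (X.comap L)).finrank_eq).symm
    rw [h1] at h2
    rw [← h2, hXd, finrank_top, LinearMap.finrank_range_of_inj hi]
  · rintro ⟨X, -, hX0, hXd⟩
    refine ⟨X.map L, LinearMap.map_le_range, ?_, ?_⟩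
    · rintro _ ⟨u, hu, rfl⟩
      rw [hL]; exact hX0 u hu
    · rw [← (Submodule.equivMapOfInjective L hi X).finrank_eq, hXd, finrank_top, LinearMap.finrank_range_of_inj hi]

theorem qplus_equiv {Q : QuadraticForm F V} {S : QuadraticForm F U} (L : U ≃ₗ[F] V)
    (hL : ∀ v, Q (L v) = S v) : QPlus Q ⊤ ↔ QPlus S ⊤ := by
  rw [← LinearEquiv.range L]
  exact qplus_range L.toLinearMap L.injective hL

theorem nondeg_of_polar {Q : QuadraticForm F V} (h : ∀ x, (∀ y, QuadraticMap.polar Q x y = 0) → x = 0) :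
    (QuadraticMap.polarBilin Q).Nondegenerate :=
  ⟨h, fun y hy => h y fun x => (QuadraticMap.polar_comm Q y x).trans (hy x)⟩

theorem polar_nondeg {Q : QuadraticForm F V} (h : (QuadraticMap.polarBilin Q).Nondegenerate) :
    ∀ x, (∀ y, QuadraticMap.polar Q x y = 0) → x = 0 := h.1

theorem prod_nondeg {P : QuadraticForm F U} {Q : QuadraticForm F V} (hP : (QuadraticMap.polarBilin P).Nondegenerate)
    (hQ : (QuadraticMap.polarBilin Q).Nondegenerate) : (QuadraticMap.polarBilin (P.prod Q)).Nondegenerate := by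
  refine nondeg_of_polar fun x hx => Prod.ext (hP.1 _ fun y => ?_) (hQ.1 _ fun y => ?_)
  · have := hx (y, 0)
    simpa [QuadraticMap.polar, QuadraticMap.prod_apply] using this
  · have := hx (0, y)
    simpa [QuadraticMap.polar, QuadraticMap.prod_apply] using this

theorem qplus_prod {P : QuadraticForm F U} {Q : QuadraticForm F V} (hP : (QuadraticMap.polarBilin P).Nondegenerate)
    (hQ : (QuadraticMap.polarBilin Q).Nondegenerate) {h k : ℕ} (hU : Module.finrank F U = 2 * h)
    (hV : Module.finrank F V = 2 * k) : QPlus (P.prod Q) ⊤ ↔ (QPlus P ⊤ ↔ QPlus Q ⊤) := by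
  have h1 : ∀ u, P.prod Q (LinearMap.inl F U V u) = P u := fun u => by simp [QuadraticMap.prod_apply]
  have h2 : ∀ u, P.prod Q (LinearMap.inr F U V u) = Q u := fun u => by simp [QuadraticMap.prod_apply]
  obtain ⟨hi1, hW1⟩ := qnd_range hP (LinearMap.inl F U V) h1
  obtain ⟨hi2, hW2⟩ := qnd_range hQ (LinearMap.inr F U V) h2
  have := qplus_sup_iff hW1 hW2 (by
      rintro _ ⟨u, rfl⟩ _ ⟨v, rfl⟩
      simp [QuadraticMap.polar, QuadraticMap.prod_apply])
    (h := h) (h' := k) (by rw [LinearMap.finrank_range_of_inj hi1, hU]) (by rw [LinearMap.finrank_range_of_inj hi2, hV])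
  rwa [LinearMap.sup_range_inl_inr, qplus_range _ hi1 h1, qplus_range _ hi2 h2] at this

end types

variable {F : Type*} [Field F] [Fintype F]

/-- isometries with order divisible by `N` in a space of dimension `2 * h` and type `ε` -/
def Has (F : Type*) [Field F] [Fintype F] (ε : Bool) (h N : ℕ) : Prop :=
  ∃ (Q : QuadraticForm F (Fin (2 * h) → F)) (f : Module.End F (Fin (2 * h) → F)),
    (QuadraticMap.polarBilin Q).Nondegenerate ∧ (QPlus Q ⊤ ↔ ε = true) ∧ (∀ v, Q (f v) = Q v) ∧ N ∣ orderOf f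

theorem has_of_model {V : Type*} [AddCommGroup V] [Module F V] [FiniteDimensional F V] {ε : Bool} {h N : ℕ}
    (Q : QuadraticForm F V) (hQ : (QuadraticMap.polarBilin Q).Nondegenerate) (hd : Module.finrank F V = 2 * h)
    (hε : QPlus Q ⊤ ↔ ε = true) (f : Module.End F V) (hI : ∀ v, Q (f v) = Q v) (hN : N ∣ orderOf f) :
    Has F ε h N := by
  let L : (Fin (2 * h) → F) ≃ₗ[F] V := LinearEquiv.ofFinrankEq _ _ (by rw [Module.finrank_fin_fun, hd])
  refine ⟨Q.comp L.toLinearMap, L.symm.conjAlgEquiv F f, nondeg_of_polar fun x hx => ?_, ?_, fun v => ?_, ?_⟩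
  · refine L.map_eq_zero_iff.1 (hQ.1 _ fun y => ?_)
    obtain ⟨y, rfl⟩ := L.surjective y
    have := hx y
    simpa [QuadraticMap.polar] using this
  · rw [← qplus_equiv (Q := Q) (S := Q.comp L.toLinearMap) L (fun v => rfl), hε]
  · simp [hI]
  · rwa [show orderOf (L.symm.conjAlgEquiv F f) = orderOf f from MulEquiv.orderOf_eq (L.symm.conjAlgEquiv F).toMulEquiv f]

theorem prodMap_pow {U V : Type*} [AddCommGroup U] [Module F U] [AddCommGroup V] [Module F V]
    (f : Module.End F U) (g : Module.End F V) (n : ℕ) (x : U × V) :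
    ((LinearMap.prodMap f g : Module.End F (U × V)) ^ n) x = ((f ^ n) x.1, (g ^ n) x.2) := by
  induction n generalizing x with
  | zero => rfl
  | succ n ih => simp [pow_succ, Module.End.mul_apply, ih]

/-- orthogonal sums -/
theorem Has.sum {ε ε' : Bool} {h h' N N' : ℕ} (H : Has F ε h N) (H' : Has F ε' h' N') :
    Has F (ε == ε') (h + h') (Nat.lcm N N') := by
  obtain ⟨Q, f, hQ, hε, hI, hN⟩ := H
  obtain ⟨Q', f', hQ', hε', hI', hN'⟩ := H'
  refine has_of_model (Q.prod Q') (prod_nondeg hQ hQ') ?_ ?_ (LinearMap.prodMap f f') (fun v => ?_) ?_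
  · rw [Module.finrank_prod, Module.finrank_fin_fun, Module.finrank_fin_fun]; ring
  · rw [qplus_prod hQ hQ' (Module.finrank_fin_fun F) (Module.finrank_fin_fun F), hε, hε']
    cases ε <;> cases ε' <;> simp
  · simp [QuadraticMap.prod_apply, hI, hI']
  · have key := pow_orderOf_eq_one (LinearMap.prodMap f f' : Module.End F ((Fin (2 * h) → F) × (Fin (2 * h') → F)))
    refine Nat.lcm_dvd (hN.trans (orderOf_dvd_of_pow_eq_one (LinearMap.ext fun u => ?_)))
      (hN'.trans (orderOf_dvd_of_pow_eq_one (LinearMap.ext fun u => ?_)))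
    · have := congrArg Prod.fst ((prodMap_pow f f' _ (u, 0)).symm.trans (LinearMap.congr_fun key (u, 0)))
      simpa using this
    · have := congrArg Prod.snd ((prodMap_pow f f' _ (0, u)).symm.trans (LinearMap.congr_fun key (0, u)))
      simpa using this

/-! ### tori -/

/-- plus type torus -/
theorem has_plus_torus {d : ℕ} (hd : 1 ≤ d) : Has F true d (Fintype.card F ^ d - 1) := by
  classical
  haveI : NeZero d := ⟨by omega⟩
  obtain ⟨p, hp⟩ := CharP.exists F
  haveI : Fact p.Prime := ⟨CharP.char_is_prime F p⟩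
  let K := FiniteField.Extension F p d
  have hfin : Module.finrank F K = d := FiniteField.finrank_extension F p d
  haveI : Finite K := Module.finite_of_finite F
  obtain ⟨g, hg⟩ := IsCyclic.exists_ofOrder_eq_natCard (α := Kˣ)
  rw [Nat.card_units, Module.natCard_eq_pow_finrank (K := F), hfin, Nat.card_eq_fintype_card] at hg
  let B : LinearMap.BilinMap F (K × K) F :=
    (Algebra.traceForm F K).compl₁₂ (LinearMap.fst F K K) (LinearMap.snd F K K)
  obtain ⟨Q, hQ⟩ : ∃ Q : QuadraticForm F (K × K), Q = B.toQuadraticMap := ⟨_, rfl⟩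
  have hQx : ∀ x, Q x = Algebra.trace F K (x.1 * x.2) := fun x => by
    rw [hQ]; simp [B, Algebra.traceForm_apply]
  have hpol : ∀ x y : K × K, QuadraticMap.polar Q x y = Algebra.trace F K (x.1 * y.2) + Algebra.trace F K (y.1 * x.2) :=
    fun x y => by
      simp only [QuadraticMap.polar, hQx, Prod.fst_add, Prod.snd_add, add_mul, mul_add, map_add]
      ring
  have hnd : (QuadraticMap.polarBilin Q).Nondegenerate := by
    refine nondeg_of_polar fun x hx => Prod.ext ((traceForm_nondegenerate F K).1 _ fun z => ?_)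
      ((traceForm_nondegenerate F K).1 _ fun z => ?_)
    · have := hx (0, z)
      rw [hpol] at this
      simpa [Algebra.traceForm_apply] using this
    · have := hx (z, 0)
      rw [hpol] at this
      simpa [Algebra.traceForm_apply, mul_comm] using this
  let f : Module.End F (K × K) := LinearMap.prodMap (LinearMap.mulLeft F (g : K)) (LinearMap.mulLeft F ((g⁻¹ : Kˣ) : K))
  refine has_of_model Q hnd (by rw [Module.finrank_prod, hfin]; ring) (iff_of_true ?_ rfl) f (fun v => ?_) ?_
  · refine ⟨LinearMap.range (LinearMap.inl F K K), le_top, ?_, ?_⟩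
    · rintro _ ⟨u, rfl⟩
      simp [hQx]
    · rw [LinearMap.finrank_range_of_inj LinearMap.inl_injective, finrank_top, Module.finrank_prod]; ring
  · rw [hQx, hQx]
    congr 1
    show (g : K) * v.1 * (((g⁻¹ : Kˣ) : K) * v.2) = v.1 * v.2
    rw [mul_mul_mul_comm, Units.mul_inv, one_mul]
  · rw [← hg]
    refine orderOf_dvd_of_pow_eq_one (Units.ext ?_)
    have h := congrArg Prod.fst ((prodMap_pow _ _ (orderOf f) ((1 : K), (0 : K))).symm.trans
      (LinearMap.congr_fun (pow_orderOf_eq_one f) ((1 : K), (0 : K))))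
    rw [LinearMap.pow_mulLeft] at h
    simpa using h

/-- minus type torus -/
theorem has_minus_torus [CharP F 2] {d : ℕ} (hd : 1 ≤ d) : Has F false d (Fintype.card F ^ d + 1) := by
  classical
  haveI : NeZero (2 * d) := ⟨by omega⟩
  haveI : Fact (Nat.Prime 2) := ⟨Nat.prime_two⟩
  obtain ⟨q, hq⟩ : ∃ q, q = Fintype.card F := ⟨_, rfl⟩
  have hq2 : 2 ≤ q := hq ▸ Fintype.one_lt_card
  have hqe : 2 ∣ q := by
    rw [hq, ← CharP.cast_eq_zero_iff F 2]
    exact FiniteField.cast_card_eq_zero F
  let K := FiniteField.Extension F 2 (2 * d)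
  haveI : CharP K 2 := charP_of_injective_algebraMap (algebraMap F K).injective 2
  have hfin : Module.finrank F K = 2 * d := FiniteField.finrank_extension F 2 (2 * d)
  haveI : Finite K := Module.finite_of_finite F
  letI : Fintype K := Fintype.ofFinite K
  obtain ⟨Q, hQ⟩ : ∃ Q, Q = q ^ d := ⟨_, rfl⟩
  have hQ2 : 2 ≤ Q := hQ ▸ le_trans hq2 (Nat.le_self_pow (by omega) q)
  have hKQ : Fintype.card K = Q * Q := by
    rw [Module.card_eq_pow_finrank (K := F), hfin, hQ, hq, ← pow_add, two_mul]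
  obtain ⟨σ, hσ0⟩ : ∃ σ : K →ₐ[F] K,
      σ = (FiniteField.frobeniusAlgEquivOfAlgebraic F K ^ d : K ≃ₐ[F] K).toAlgHom := ⟨_, rfl⟩
  have hσ : ∀ x : K, σ x = x ^ Q := fun x => by
    rw [hσ0]
    show (FiniteField.frobeniusAlgEquivOfAlgebraic F K ^ d : K ≃ₐ[F] K) x = _
    rw [AlgEquiv.coe_pow, FiniteField.coe_frobeniusAlgEquivOfAlgebraic, pow_iterate, hQ, hq]
  have hσσ : ∀ x, σ (σ x) = x := fun x => by rw [hσ, hσ, ← pow_mul, ← hKQ, FiniteField.pow_card]
  have htr : ∀ x, Algebra.trace F K (σ x) = Algebra.trace F K x := fun x => by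
    rw [hσ0]
    exact Algebra.trace_eq_of_algEquiv (FiniteField.frobeniusAlgEquivOfAlgebraic F K ^ d : K ≃ₐ[F] K) x
  obtain ⟨g, hg⟩ := IsCyclic.exists_ofOrder_eq_natCard (α := Kˣ)
  rw [Nat.card_units, Nat.card_eq_fintype_card, hKQ] at hg
  have hQQ : Q * Q - 1 = (Q + 1) * (Q - 1) := by rw [← Nat.sq_sub_sq, one_pow, sq]
  obtain ⟨θ, hθ⟩ : ∃ θ : K, θ + σ θ ≠ 0 := by
    refine ⟨g, fun h => ?_⟩
    rw [CharTwo.add_eq_zero, hσ, ← Units.val_pow_eq_pow_val, ← Units.ext_iff] at h
    have h5 : g ^ (Q - 1) = 1 := mul_right_cancel (b := g) (by rw [← pow_succ, Nat.sub_add_cancel (by omega), ← h, one_mul])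
    have h6 := Nat.le_of_dvd (by omega) (orderOf_dvd_iff_pow_eq_one.2 h5)
    rw [hg, hQQ] at h6
    have : 3 * (Q - 1) ≤ (Q + 1) * (Q - 1) := Nat.mul_le_mul_right _ (by omega)
    omega
  obtain ⟨c, hc⟩ : ∃ c : K, c + σ c = 1 := ⟨θ / (θ + σ θ), by
    rw [map_div₀, map_add, hσσ, add_comm (σ θ) θ, ← add_div, div_self hθ]⟩
  let B : LinearMap.BilinMap F K F := (Algebra.traceForm F K).compl₁₂ (LinearMap.mulLeft F c) σ.toLinearMap
  obtain ⟨P, hP⟩ : ∃ P : QuadraticForm F K, P = B.toQuadraticMap := ⟨_, rfl⟩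
  have hPx : ∀ x, P x = Algebra.trace F K (c * (x * σ x)) := fun x => by
    rw [hP]; simp [B, Algebra.traceForm_apply, mul_assoc]
  have hpol : ∀ x y : K, QuadraticMap.polar P x y = Algebra.trace F K (x * σ y) := fun x y => by
    simp only [QuadraticMap.polar, hPx, map_add, add_mul, mul_add]
    rw [← htr (c * (y * σ x)), map_mul σ, map_mul σ, hσσ]
    have h : Algebra.trace F K (c * (x * σ y)) + Algebra.trace F K (σ c * (σ y * x)) = Algebra.trace F K (x * σ y) := by
      rw [← map_add]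
      congr 1
      linear_combination (x * σ y) * hc
    linear_combination h
  have hPnd : (QuadraticMap.polarBilin P).Nondegenerate :=
    nondeg_of_polar fun x hx => (traceForm_nondegenerate F K).1 _ fun z => by
      have := hx (σ z)
      rw [hpol, hσσ] at this
      rwa [Algebra.traceForm_apply]
  obtain ⟨u, hu⟩ : ∃ u : Kˣ, u = g ^ (Q - 1) := ⟨_, rfl⟩
  have huo : orderOf u = Q + 1 := by
    rw [hu, orderOf_pow, hg, Nat.gcd_eq_right ⟨Q + 1, by rw [hQQ, mul_comm]⟩, hQQ, Nat.mul_div_cancel _ (by omega)]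
  have hnorm : ∀ v : Kˣ, v ^ (Q + 1) = 1 → ∀ x, P ((v : K) * x) = P x := fun v hv x => by
    rw [hPx, hPx, map_mul σ, hσ v, mul_mul_mul_comm, ← pow_succ', ← Units.val_pow_eq_pow_val, hv, Units.val_one,
      one_mul]
  have hu1 : u ^ (Q + 1) = 1 := huo ▸ pow_orderOf_eq_one u
  refine has_of_model P hPnd hfin (iff_of_false (fun hp => ?_) (by simp)) (LinearMap.mulLeft F (u : K)) (hnorm u hu1) ?_
  · -- a prime divisor of `Q + 1` acts without fixed points
    obtain ⟨r, hr⟩ : ∃ r, r = (Q + 1).minFac := ⟨_, rfl⟩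
    haveI : Fact r.Prime := ⟨hr ▸ Nat.minFac_prime (by omega)⟩
    have hrd : r ∣ Q + 1 := hr ▸ Nat.minFac_dvd _
    have hr2 : r ≠ 2 := fun h => by
      subst h
      have : 2 ∣ Q := hQ ▸ dvd_trans hqe (dvd_pow_self q (by omega))
      omega
    obtain ⟨m, hm⟩ := hrd
    have hmo : (u ^ m) ^ r = 1 := by rw [← pow_mul, Nat.mul_comm m r, ← hm, hu1]
    have hm1 : u ^ m ≠ 1 := fun h => by
      have h1 := orderOf_dvd_of_pow_eq_one h
      rw [huo, hm] at h1
      have hm0 : 0 < m := by rcases Nat.eq_zero_or_pos m with h | h <;> [simp [h] at hm; exact h]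
      have := Nat.le_of_dvd hm0 h1
      have h2 : 2 * m ≤ r * m := Nat.mul_le_mul_right _ (Fact.out : r.Prime).two_le
      omega
    have h := (fpf_type_dvd (p := 2) hr2 hr2 (Q := P) (T := LinearMap.mulLeft F ((u ^ m : Kˣ) : K))
      (hnorm _ (by rw [← pow_mul, Nat.mul_comm m (Q + 1), pow_mul, hu1, one_pow]))
      (by
        rw [LinearMap.pow_mulLeft, ← Units.val_pow_eq_pow_val, hmo, Units.val_one, LinearMap.mulLeft_one]
        rfl)
      (S := ⊤) (fun _ _ => Submodule.mem_top) (qnd_top hPnd) (fun x _ hx => by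
        by_contra hx0
        exact hm1 (Units.ext ((mul_eq_right₀ hx0).1 hx)))
      (h := d) (by rw [finrank_top, hfin]) (by omega)).1 hp
    have h' : ((Fintype.card F : ℕ) : ZMod r) ^ d = -1 := by
      rw [eq_neg_iff_add_eq_zero, ← Nat.cast_pow, ← Nat.cast_one, ← Nat.cast_add, ZMod.natCast_eq_zero_iff, ← hq,
        ← hQ]
      exact ⟨m, hm⟩
    exact one_ne_neg_one_zmod (r := r) hr2 (h.symm.trans h')
  · rw [← hq, ← hQ, ← huo]
    refine orderOf_dvd_of_pow_eq_one (Units.ext ?_)
    have h := LinearMap.congr_fun (pow_orderOf_eq_one (LinearMap.mulLeft F (u : K))) (1 : K)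
    rw [LinearMap.pow_mulLeft] at h
    simpa using h

/-! ### unipotent elements -/

/-- the hyperbolic plane -/
def hypPlane (F : Type*) [Field F] : QuadraticForm F (F × F) :=
  QuadraticMap.linMulLin (LinearMap.fst F F F) (LinearMap.snd F F F)

theorem hypPlane_apply (x : F × F) : hypPlane F x = x.1 * x.2 := rfl

theorem hypPlane_nondeg : (QuadraticMap.polarBilin (hypPlane F)).Nondegenerate :=
  nondeg_of_polar fun x hx => Prod.ext
    (by simpa [QuadraticMap.polar, hypPlane_apply, add_mul, mul_add] using hx (0, 1))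
    (by simpa [QuadraticMap.polar, hypPlane_apply, add_mul, mul_add] using hx (1, 0))

theorem qplus_hypPlane : QPlus (hypPlane F) ⊤ := by
  refine ⟨LinearMap.range (LinearMap.inl F F F), le_top, ?_, ?_⟩
  · rintro _ ⟨u, rfl⟩
    simp [hypPlane_apply]
  · rw [LinearMap.finrank_range_of_inj LinearMap.inl_injective, finrank_top, Module.finrank_prod]; ring

section unip

variable {W : Type*} [AddCommGroup W] [Module F W]

/-- an isometry of the plane plus `W` made from an isometry of `W` and a vector -/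
def extMap (Q : QuadraticForm F W) (f : Module.End F W) (w : W) : Module.End F ((F × F) × W) where
  toFun x := ((x.1.1 + QuadraticMap.polar Q w (f x.2) + Q w * x.1.2, x.1.2), f x.2 + x.1.2 • w)
  map_add' x y := by
    refine Prod.ext (Prod.ext ?_ rfl) ?_
    · simp [QuadraticMap.polar_add_right, mul_add]; ring
    · simp [add_smul]; abel
  map_smul' c x := by
    refine Prod.ext (Prod.ext ?_ rfl) ?_
    · simp [QuadraticMap.polar_smul_right]; ring
    · simp [mul_smul]

theorem extMap_apply (Q : QuadraticForm F W) (f : Module.End F W) (w : W) (x : (F × F) × W) :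
    extMap Q f w x = ((x.1.1 + QuadraticMap.polar Q w (f x.2) + Q w * x.1.2, x.1.2), f x.2 + x.1.2 • w) := rfl

theorem extMap_isometry [CharP F 2] (Q : QuadraticForm F W) (f : Module.End F W) (hI : ∀ v, Q (f v) = Q v) (w : W)
    (x : (F × F) × W) : (hypPlane F).prod Q (extMap Q f w x) = (hypPlane F).prod Q x := by
  simp only [extMap_apply, QuadraticMap.prod_apply, hypPlane_apply]
  rw [QuadraticMap.map_add (⇑Q), QuadraticMap.map_smul, QuadraticMap.polar_smul_right, hI, QuadraticMap.polar_comm Q (f x.2)]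
  simp only [smul_eq_mul]
  linear_combination (x.1.2 * QuadraticMap.polar Q w (f x.2) + Q w * x.1.2 * x.1.2) * (CharTwo.two_eq_zero : (2 : F) = 0)

/-- shape of the powers -/
theorem extMap_pow_shape (Q : QuadraticForm F W) (f : Module.End F W) (w : W) (n : ℕ) :
    ∃ (l : W →ₗ[F] F) (c : F) (w' : W), ∀ x : (F × F) × W,
      (extMap Q f w ^ n) x = ((x.1.1 + l x.2 + c * x.1.2, x.1.2), (f ^ n) x.2 + x.1.2 • w') := by
  induction n with
  | zero => exact ⟨0, 0, 0, fun x => by simp⟩
  | succ n ih =>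
    obtain ⟨l, c, w', h⟩ := ih
    refine ⟨l + (QuadraticMap.polarBilin Q w).comp (f * f ^ n), c + QuadraticMap.polar Q w (f w') + Q w, f w' + w, fun x => ?_⟩
    rw [pow_succ', Module.End.mul_apply, h, extMap_apply, pow_succ', Module.End.mul_apply]
    refine Prod.ext (Prod.ext ?_ rfl) ?_
    · simp [QuadraticMap.polar_add_right, QuadraticMap.polar_smul_right, Module.End.mul_apply]; ring
    · simp [smul_add]; abel

theorem extMap_two_power [CharP F 2] (Q : QuadraticForm F W) (f : Module.End F W) (w : W) {j : ℕ}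
    (hf : f ^ 2 ^ j = 1) : extMap Q f w ^ 2 ^ (j + 2) = 1 := by
  obtain ⟨l, c, w', h⟩ := extMap_pow_shape Q f w (2 ^ j)
  rw [pow_add, pow_mul]
  refine LinearMap.ext fun x => ?_
  have h2 : ∀ y : (F × F) × W, (extMap Q f w ^ 2 ^ j) ((extMap Q f w ^ 2 ^ j) y) = ((y.1.1 + y.1.2 * l w', y.1.2), y.2) := by
    intro y
    rw [h, h, hf]
    refine Prod.ext (Prod.ext ?_ rfl) ?_
    · simp
      linear_combination (l y.2 + c * y.1.2) * (CharTwo.two_eq_zero : (2 : F) = 0)
    · simp only [Module.End.one_apply]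
      rw [add_assoc, ← add_smul, CharTwo.add_self_eq_zero, zero_smul, add_zero]
  rw [show (2 : ℕ) ^ 2 = 4 by norm_num]
  simp only [pow_succ', pow_zero, mul_one, Module.End.mul_apply, Module.End.one_apply]
  rw [h2, h2]
  refine Prod.ext (Prod.ext ?_ rfl) rfl
  simp only
  linear_combination (x.1.2 * l w') * (CharTwo.two_eq_zero : (2 : F) = 0)

theorem dvd_of_two_power {M : Type*} [Monoid M] {u : M} {j k : ℕ} (h : u ^ 2 ^ j = 1) (hne : u ^ 2 ^ k ≠ 1) :
    2 ^ (k + 1) ∣ orderOf u := by
  obtain ⟨i, -, hi⟩ := (Nat.dvd_prime_pow Nat.prime_two).1 (orderOf_dvd_of_pow_eq_one h)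
  rw [hi]
  refine pow_dvd_pow 2 (Nat.succ_le_of_lt (lt_of_not_ge fun hik => hne ?_))
  rw [← orderOf_dvd_iff_pow_eq_one, hi]
  exact pow_dvd_pow 2 hik

end unip

/-- the reflection in a nonsingular vector -/
def refl {W : Type*} [AddCommGroup W] [Module F W] (Q : QuadraticForm F W) (z : W) : Module.End F W :=
  1 + ((Q z)⁻¹ • QuadraticMap.polarBilin Q z).smulRight z

theorem refl_apply {W : Type*} [AddCommGroup W] [Module F W] (Q : QuadraticForm F W) (z v : W) :
    refl Q z v = v + ((Q z)⁻¹ * QuadraticMap.polar Q z v) • z := rfl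

theorem plane_data [CharP F 2] (ε : Bool) :
    ∃ (Q : QuadraticForm F (Fin (2 * 1) → F)) (f : Module.End F (Fin (2 * 1) → F)) (w : Fin (2 * 1) → F),
      (QuadraticMap.polarBilin Q).Nondegenerate ∧ (QPlus Q ⊤ ↔ ε = true) ∧ (∀ v, Q (f v) = Q v) ∧ f ^ 2 = 1 ∧
      f w ≠ w ∧ QuadraticMap.polar Q w (f w) ≠ 0 := by
  obtain ⟨a, b, hab⟩ := CfsgLib.IsometryConj.exists_anisotropic_binary (F := F)
  have mk : ∀ {V : Type _} [AddCommGroup V] [Module F V] [FiniteDimensional F V] (P : QuadraticForm F V),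
      (QuadraticMap.polarBilin P).Nondegenerate → Module.finrank F V = 2 * 1 → (QPlus P ⊤ ↔ ε = true) →
      ∀ z, P z ≠ 0 → ∃ (Q : QuadraticForm F (Fin (2 * 1) → F)) (f : Module.End F (Fin (2 * 1) → F))
        (w : Fin (2 * 1) → F),
      (QuadraticMap.polarBilin Q).Nondegenerate ∧ (QPlus Q ⊤ ↔ ε = true) ∧ (∀ v, Q (f v) = Q v) ∧ f ^ 2 = 1 ∧
      f w ≠ w ∧ QuadraticMap.polar Q w (f w) ≠ 0 := by
    intro V _ _ _ P hP hd hε z hz
    let L : (Fin (2 * 1) → F) ≃ₗ[F] V := LinearEquiv.ofFinrankEq _ _ (by rw [Module.finrank_fin_fun, hd])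
    let Q : QuadraticForm F (Fin (2 * 1) → F) := P.comp L.toLinearMap
    have hQ : (QuadraticMap.polarBilin Q).Nondegenerate := nondeg_of_polar fun x hx => by
      refine L.map_eq_zero_iff.1 (hP.1 _ fun y => ?_)
      obtain ⟨y, rfl⟩ := L.surjective y
      simpa [Q, QuadraticMap.polar] using hx y
    obtain ⟨z', hz'⟩ : ∃ z', Q z' ≠ 0 := ⟨L.symm z, by simpa [Q] using hz⟩
    obtain ⟨w, hw⟩ : ∃ w, QuadraticMap.polar Q z' w ≠ 0 := by
      by_contra h
      push Not at h
      exact hz' (by rw [hQ.1 z' h, map_zero])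
    have hzz : QuadraticMap.polar Q z' z' = 0 := by
      rw [QuadraticMap.polar_self]; simp [CharTwo.two_eq_zero]
    have hcne : (Q z')⁻¹ * QuadraticMap.polar Q z' w ≠ 0 := mul_ne_zero (inv_ne_zero hz') hw
    refine ⟨Q, refl Q z', w, hQ, (qplus_equiv (Q := P) (S := Q) L fun v => rfl).symm.trans hε, fun v => ?_,
      LinearMap.ext fun v => ?_, ?_, ?_⟩
    · rw [refl_apply, QuadraticMap.map_add (⇑Q), QuadraticMap.map_smul, QuadraticMap.polar_smul_right,
        QuadraticMap.polar_comm Q v z']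
      simp only [smul_eq_mul]
      field_simp
      linear_combination (QuadraticMap.polar Q z' v ^ 2) * (CharTwo.two_eq_zero : (2 : F) = 0)
    · rw [sq, Module.End.mul_apply, refl_apply, refl_apply, QuadraticMap.polar_add_right, QuadraticMap.polar_smul_right,
        hzz, smul_zero, add_zero, add_assoc, ← add_smul, CharTwo.add_self_eq_zero, zero_smul, add_zero]
      rfl
    · rw [refl_apply, Ne, add_eq_left, smul_eq_zero, not_or]
      exact ⟨hcne, fun h => hz' (by rw [h, map_zero])⟩
    · rw [refl_apply, QuadraticMap.polar_add_right, QuadraticMap.polar_smul_right, QuadraticMap.polar_self,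
        QuadraticMap.polar_comm Q w z']
      simp [CharTwo.two_eq_zero, hw, hz']
  cases ε with
  | true =>
    exact mk (hypPlane F) hypPlane_nondeg (by rw [Module.finrank_prod, Module.finrank_self])
      (iff_of_true qplus_hypPlane rfl) (1, 1) (by simp [hypPlane_apply])
  | false =>
    refine mk (minusQ 0 F a b) (minusQ_nondeg hab 0) ?_ (iff_of_false (not_qplus_top_minusQ hab) (by simp))
      (Sum.elim (fun _ => 0) ![1, 0]) ?_
    · rw [Module.finrank_fintype_fun_eq_card]; simp
    · rw [minusQ_coe]; simp [Cfsg.quadFormMinus]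

/-- reflections -/
theorem has_two [CharP F 2] (ε : Bool) : Has F ε 1 2 := by
  obtain ⟨Q, f, w, hQ, hε, hI, hf, hw, -⟩ := plane_data (F := F) ε
  refine ⟨Q, f, hQ, hε, hI, ?_⟩
  refine dvd_of_two_power (j := 1) (k := 0) (by simpa using hf) fun h => hw ?_
  rw [pow_zero, pow_one] at h
  rw [h, Module.End.one_apply]

/-- elements of order four and eight -/
theorem has_four_eight [CharP F 2] (ε : Bool) : Has F ε 2 4 ∧ Has F ε 3 8 := by
  obtain ⟨Q, f, w, hQ, hε, hI, hf, hw, hb⟩ := plane_data (F := F) ε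
  have hd : Module.finrank F (Fin (2 * 1) → F) = 2 * 1 := Module.finrank_fin_fun F
  have hh : Module.finrank F (F × F) = 2 * 1 := by rw [Module.finrank_prod, Module.finrank_self]
  let Q₂ : QuadraticForm F ((F × F) × (Fin (2 * 1) → F)) := (hypPlane F).prod Q
  have hQ₂ : (QuadraticMap.polarBilin Q₂).Nondegenerate := prod_nondeg hypPlane_nondeg hQ
  have hd₂ : Module.finrank F ((F × F) × (Fin (2 * 1) → F)) = 2 * 2 := by rw [Module.finrank_prod, hd, hh]
  have hε₂ : QPlus Q₂ ⊤ ↔ ε = true :=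
    (qplus_prod hypPlane_nondeg hQ hh hd).trans ((iff_congr (iff_true_intro qplus_hypPlane) hε).trans (by simp))
  let u := extMap Q f w
  have hu : u ^ 2 ^ 3 = 1 := extMap_two_power Q f w (j := 1) (by simpa using hf)
  have hff : f (f w) = w := by rw [← Module.End.mul_apply, ← sq, hf, Module.End.one_apply]
  refine ⟨has_of_model Q₂ hQ₂ hd₂ hε₂ u (extMap_isometry Q f hI w) ?_, ?_⟩
  · refine dvd_of_two_power (j := 3) (k := 1) hu fun h => hw ?_
    have := congrArg Prod.snd (LinearMap.congr_fun h (((0 : F), (1 : F)), (0 : Fin (2 * 1) → F)))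
    simp [u, sq, Module.End.mul_apply, extMap_apply] at this
    rwa [← CharTwo.add_eq_zero]
  · let Q₃ : QuadraticForm F ((F × F) × ((F × F) × (Fin (2 * 1) → F))) := (hypPlane F).prod Q₂
    have hd₃ : Module.finrank F ((F × F) × ((F × F) × (Fin (2 * 1) → F))) = 2 * 3 := by
      rw [Module.finrank_prod, hh, hd₂]
    have hε₃ : QPlus Q₃ ⊤ ↔ ε = true :=
      (qplus_prod hypPlane_nondeg hQ₂ hh hd₂).trans ((iff_congr (iff_true_intro qplus_hypPlane) hε₂).trans (by simp))
    obtain ⟨w₂, hw₂⟩ : ∃ w₂ : (F × F) × (Fin (2 * 1) → F), w₂ = ((0, 1), 0) := ⟨_, rfl⟩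
    refine has_of_model Q₃ (prod_nondeg hypPlane_nondeg hQ₂) hd₃ hε₃ (extMap Q₂ u w₂)
      (extMap_isometry Q₂ u (extMap_isometry Q f hI w) w₂) ?_
    refine dvd_of_two_power (j := 5) (k := 2) (extMap_two_power Q₂ u w₂ (j := 3) hu) fun h => hb ?_
    have := congrArg Prod.snd (LinearMap.congr_fun h (((0 : F), (1 : F)), (0 : (F × F) × (Fin (2 * 1) → F))))
    rw [show (2 : ℕ) ^ 2 = 4 by norm_num] at this
    simp only [pow_succ', pow_zero, mul_one, Module.End.mul_apply, extMap_apply, map_zero, zero_add, one_smul,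
      Module.End.one_apply] at this
    rw [hw₂] at this
    simp [u, extMap_apply, hff] at this
    linear_combination this.1.1 - (4 * Q w + QuadraticMap.polar Q w (f w)) * (CharTwo.two_eq_zero : (2 : F) = 0)

end CfsgLib.Classical.MinusEightSpec
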