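import Mathlib
import Cfsg.Agent.Lib.Classical.MinusEightSpec.Bound
import Cfsg.Agent.Lib.Classical.MinusEightSpec.Models
import Cfsg.Agent.Lib.Sp.Basic

/-!
# `PSp(8, q)` and `O⁻(8, q)` have the same element orders for even `q`
-/

set_option autoImplicit false
set_option linter.all false

namespace CfsgLib.Classical.MinusEightSpec

open Matrix CfsgLib.Perm.Elusive CfsgLib.Classical CfsgLib.Sp

variable {F : Type*} [Field F] [Fintype F] [CharP F 2]

local notation "q" => Fintype.card F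

theorem q_two_dvd : 2 ∣ q := by
  rw [← CharP.cast_eq_zero_iff F 2]
  exact FiniteField.cast_card_eq_zero F

theorem Has.of_dvd {ε : Bool} {h N M : ℕ} (H : Has F ε h N) (hM : M ∣ N) : Has F ε h M := by
  obtain ⟨Q, f, h1, h2, h3, h4⟩ := H
  exact ⟨Q, f, h1, h2, h3, hM.trans h4⟩

/-- every number of the list is realised in minus type -/
theorem has_bound {t : ℕ} (ht : IsBound q t) : Has F false 4 t := by
  have hq2 : 2 ≤ q := Fintype.one_lt_card
  have hqe := q_two_dvd (F := F)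
  have hq1 : Odd (q - 1) := by rw [Nat.odd_iff]; omega
  have hq1' : Odd (q + 1) := by rw [Nat.odd_iff]; omega
  have hpe : ∀ d, 1 ≤ d → 2 ∣ q ^ d := fun d hd => dvd_trans hqe (dvd_pow_self q (by omega))
  have hp1 : ∀ d, 1 ≤ d → Odd (q ^ d - 1) ∧ Odd (q ^ d + 1) := fun d hd => by
    have := hpe d hd
    have : 1 ≤ q ^ d := Nat.one_le_pow _ _ (by omega)
    constructor <;> rw [Nat.odd_iff] <;> omega
  have hcop : ∀ {n : ℕ} (e : ℕ), Odd n → n * 2 ^ e ∣ Nat.lcm n (2 ^ e) := fun e hn => by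
    rw [(Nat.Coprime.pow_right e (Nat.coprime_two_right.2 hn)).lcm_eq_mul]
  have h1p : Has F true 1 (q - 1) := by simpa using has_plus_torus (F := F) (d := 1) le_rfl
  have h1m : Has F false 1 (q + 1) := by simpa using has_minus_torus (F := F) (d := 1) le_rfl
  have h2p := has_plus_torus (F := F) (d := 2) (by norm_num)
  have h2m := has_minus_torus (F := F) (d := 2) (by norm_num)
  have h3p := has_plus_torus (F := F) (d := 3) (by norm_num)
  have h3m := has_minus_torus (F := F) (d := 3) (by norm_num)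
  rcases ht with rfl | rfl | rfl | rfl | rfl | rfl | rfl | rfl | rfl | rfl | rfl | rfl
  · exact has_minus_torus (F := F) (d := 4) (by norm_num)
  · refine (h2m.sum h2p).of_dvd ?_
    have hid : (q ^ 2 + 1) * (q ^ 2 - 1) = q ^ 4 - 1 := by rw [← Nat.sq_sub_sq, one_pow, ← pow_mul]
    have hc : Nat.Coprime (q ^ 2 + 1) (q ^ 2 - 1) := by
      have h2 : 1 ≤ q ^ 2 := Nat.one_le_pow _ _ (by omega)
      have hg := Nat.gcd_dvd (q ^ 2 + 1) (q ^ 2 - 1)
      have h3 := Nat.dvd_sub hg.1 hg.2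
      rw [show q ^ 2 + 1 - (q ^ 2 - 1) = 2 by omega] at h3
      rcases (Nat.dvd_prime Nat.prime_two).1 h3 with h | h
      · exact h
      · have := h ▸ hg.1
        obtain ⟨k, hk⟩ := (hp1 2 (by norm_num)).2
        omega
    rw [hc.lcm_eq_mul, hid]
  · exact (h3m.sum (has_two true)).of_dvd (hcop 1 (hp1 3 (by norm_num)).2)
  · exact (h3p.sum (has_two false)).of_dvd (hcop 1 (hp1 3 (by norm_num)).1)
  · exact h3m.sum h1p
  · exact h3p.sum h1m
  · exact (h1p.sum (has_four_eight false).2).of_dvd (hcop 3 hq1)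
  · exact (h1m.sum (has_four_eight true).2).of_dvd (hcop 3 hq1')
  · exact (h2p.sum (has_four_eight false).1).of_dvd (hcop 2 (hp1 2 (by norm_num)).1)
  · exact (h2m.sum (has_four_eight true).1).of_dvd (hcop 2 (hp1 2 (by norm_num)).2)
  · refine ((h2m.sum h1p).sum (has_two true)).of_dvd (hcop 1 ?_)
    exact ((hp1 2 (by norm_num)).2.mul hq1).of_dvd_nat (Nat.lcm_dvd_mul _ _)
  · refine ((h2m.sum h1m).sum (has_two false)).of_dvd (hcop 1 ?_)
    exact ((hp1 2 (by norm_num)).2.mul hq1').of_dvd_nat (Nat.lcm_dvd_mul _ _)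

variable {a b : F}

local notation "Om" => Cfsg.isometryGroup F (Cfsg.quadFormMinus 3 F a b)

/-- realise in the frozen model -/
theorem exists_dvd_order (hab : ∀ z₁ z₂ : F, z₁ ^ 2 + a * z₁ * z₂ + b * z₂ ^ 2 = 0 → z₁ = 0 ∧ z₂ = 0) {N : ℕ}
    (H : Has F false 4 N) : ∃ x : ↥Om, N ∣ orderOf x := by
  classical
  obtain ⟨Q, f, hQ, hε, hI, hN⟩ := H
  obtain ⟨-, L, hL⟩ := (qplus_cases (qnd_top hQ) (k := 3) (by rw [finrank_top, Module.finrank_fin_fun]) hab).resolve_left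
    fun h => Bool.false_ne_true (hε.1 h.1)
  let L' := L.trans (LinearEquiv.ofTop ⊤ rfl)
  have hL' : ∀ v, Q (L' v) = Cfsg.quadFormMinus 3 F a b v := hL
  let g : Module.End F ((Fin 3 ⊕ Fin 3) ⊕ Fin 2 → F) := L'.symm.conjAlgEquiv F f
  have hg : ∀ v, Cfsg.quadFormMinus 3 F a b (g v) = Cfsg.quadFormMinus 3 F a b v := fun v => by
    rw [← hL', ← hL']
    simp [g, hI]
  have hgo : orderOf g = orderOf f := MulEquiv.orderOf_eq (L'.symm.conjAlgEquiv F).toMulEquiv f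
  have hinj : Function.Injective g := by
    refine (injective_iff_map_eq_zero g).2 fun v hv => ?_
    have hfv : f (L' v) = 0 := by
      have : L'.symm (f (L' v)) = 0 := by simpa [g] using hv
      exact L'.symm.map_eq_zero_iff.1 this
    refine L'.map_eq_zero_iff.1 (hQ.1 _ fun y => ?_)
    show QuadraticMap.polar Q (L' v) y = 0
    rw [← CfsgLib.Perm.Elusive.polar_map hI, hfv]
    simp [QuadraticMap.polar]
  have hu : IsUnit (LinearMap.toMatrixAlgEquiv' g) :=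
    ((Module.End.isUnit_iff g).2 ⟨hinj, LinearMap.surjective_of_injective hinj⟩).map LinearMap.toMatrixAlgEquiv'
  refine ⟨⟨hu.unit, mem_isometryGroup_iff.2 fun v => ?_⟩, ?_⟩
  · rw [IsUnit.unit_spec]
    show Cfsg.quadFormMinus 3 F a b (LinearMap.toMatrix' g *ᵥ v) = _
    rw [LinearMap.toMatrix'_mulVec]
    exact hg v
  · rw [← Subgroup.orderOf_coe, ← orderOf_units, IsUnit.unit_spec]
    have h := MulEquiv.orderOf_eq (LinearMap.toMatrixAlgEquiv' (R := F) (n := (Fin 3 ⊕ Fin 3) ⊕ Fin 2)).toMulEquiv g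
    rw [show orderOf (LinearMap.toMatrixAlgEquiv' g) = orderOf g from h, hgo]
    exact hN

/-- the scaled coordinates -/
noncomputable def spCoord (a : F) (ha : a ≠ 0) : ((Fin 3 ⊕ Fin 3) ⊕ Fin 2 → F) ≃ₗ[F] (Fin 4 ⊕ Fin 4 → F) where
  toFun v := Sum.elim (Fin.cases (v (.inr 0)) fun i => a⁻¹ * v (.inl (.inl i)))
    (Fin.cases (v (.inr 1)) fun i => v (.inl (.inr i)))
  invFun w := Sum.elim (Sum.elim (fun i => a * w (.inl i.succ)) fun i => w (.inr i.succ)) ![w (.inl 0), w (.inr 0)]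
  map_add' u v := by
    ext (i | i) <;> refine Fin.cases ?_ (fun j => ?_) i <;> simp [mul_add]
  map_smul' c v := by
    ext (i | i) <;> refine Fin.cases ?_ (fun j => ?_) i <;> simp [mul_left_comm]
  left_inv v := by
    ext ((i | i) | i) <;> [skip; skip; fin_cases i] <;> simp [ha]
  right_inv w := by
    ext (i | i) <;> refine Fin.cases ?_ (fun j => ?_) i <;> simp [ha]

theorem polar_minus (ha : a ≠ 0) (u v : (Fin 3 ⊕ Fin 3) ⊕ Fin 2 → F) :
    QuadraticMap.polar (Cfsg.quadFormMinus 3 F a b) u v =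
      a * Cfsg.sympForm 4 F (spCoord a ha u) (spCoord a ha v) := by
  rw [show Cfsg.sympForm 4 F (spCoord a ha u) (spCoord a ha v) = _ from sf_eq _ _]
  simp [QuadraticMap.polar, Cfsg.quadFormMinus, spCoord, Fin.sum_univ_succ, CharTwo.sub_eq_add]
  field_simp
  ring_nf
  simp [CharTwo.two_eq_zero, CharTwo.add_self_eq_zero]

theorem a_ne_zero (hab : ∀ z₁ z₂ : F, z₁ ^ 2 + a * z₁ * z₂ + b * z₂ ^ 2 = 0 → z₁ = 0 ∧ z₂ = 0) : a ≠ 0 := by
  intro ha
  obtain ⟨r, hr⟩ := FiniteField.isSquare_of_char_two (F := F) (ringChar.eq F 2) b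
  have h := hab r 1 (by
    rw [ha, hr]
    linear_combination (r * r) * (CharTwo.two_eq_zero : (2 : F) = 0))
  exact one_ne_zero h.2

/-- every isometry of the minus form gives a symplectic element of the same order -/
theorem exists_sp (hab : ∀ z₁ z₂ : F, z₁ ^ 2 + a * z₁ * z₂ + b * z₂ ^ 2 = 0 → z₁ = 0 ∧ z₂ = 0) (x : ↥Om) :
    ∃ A : Matrix.symplecticGroup (Fin 4) F, orderOf A = orderOf x := by
  classical
  obtain ⟨⟨X, hX⟩, hxx⟩ : ∃ y : ↥Om, y = x := ⟨x, rfl⟩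
  subst hxx
  have ha := a_ne_zero hab
  let C := spCoord a ha
  let g : Module.End F (Fin 4 ⊕ Fin 4 → F) := C.conjAlgEquiv F (Matrix.toLinAlgEquiv' (X : Matrix _ _ F))
  have hgv : ∀ u, g (C u) = C ((X : Matrix _ _ F) *ᵥ u) := fun u => by simp [g, Matrix.toLinAlgEquiv'_apply]
  have hM : (LinearMap.toMatrixAlgEquiv' g : Matrix (Fin 4 ⊕ Fin 4) (Fin 4 ⊕ Fin 4) F) ∈
      Matrix.symplecticGroup (Fin 4) F := by
    rw [mem_sp_iff]
    intro u v
    obtain ⟨u, rfl⟩ := C.surjective u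
    obtain ⟨v, rfl⟩ := C.surjective v
    have e : ∀ w, LinearMap.toMatrixAlgEquiv' g *ᵥ w = g w := fun w => LinearMap.toMatrix'_mulVec g w
    rw [e, e, hgv, hgv]
    refine mul_left_cancel₀ ha ?_
    show a * Cfsg.sympForm 4 F (spCoord a ha _) (spCoord a ha _) = a * Cfsg.sympForm 4 F (spCoord a ha _) (spCoord a ha _)
    rw [← polar_minus (b := b) ha, ← polar_minus (b := b) ha]
    exact polar_isometry hX u v
  refine ⟨⟨_, hM⟩, ?_⟩
  rw [← orderOf_injective (Matrix.symplecticGroup (Fin 4) F).subtype Subtype.val_injective ⟨_, hM⟩]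
  show orderOf (LinearMap.toMatrixAlgEquiv' g) = _
  rw [show orderOf (LinearMap.toMatrixAlgEquiv' g) = orderOf g from MulEquiv.orderOf_eq
      (LinearMap.toMatrixAlgEquiv' (R := F) (n := Fin 4 ⊕ Fin 4)).toMulEquiv g,
    show orderOf g = orderOf (Matrix.toLinAlgEquiv' (X : Matrix ((Fin 3 ⊕ Fin 3) ⊕ Fin 2) ((Fin 3 ⊕ Fin 3) ⊕ Fin 2) F)) from
      MulEquiv.orderOf_eq (C.conjAlgEquiv F).toMulEquiv (Matrix.toLinAlgEquiv' (X : Matrix ((Fin 3 ⊕ Fin 3) ⊕ Fin 2) ((Fin 3 ⊕ Fin 3) ⊕ Fin 2) F)),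
    show orderOf (Matrix.toLinAlgEquiv' (X : Matrix ((Fin 3 ⊕ Fin 3) ⊕ Fin 2) ((Fin 3 ⊕ Fin 3) ⊕ Fin 2) F)) = orderOf (X : Matrix ((Fin 3 ⊕ Fin 3) ⊕ Fin 2) ((Fin 3 ⊕ Fin 3) ⊕ Fin 2) F) from MulEquiv.orderOf_eq
      (Matrix.toLinAlgEquiv' (R := F) (n := (Fin 3 ⊕ Fin 3) ⊕ Fin 2)).toMulEquiv (X : Matrix ((Fin 3 ⊕ Fin 3) ⊕ Fin 2) ((Fin 3 ⊕ Fin 3) ⊕ Fin 2) F),
    orderOf_units, ← Subgroup.orderOf_coe]

theorem center_sp : Subgroup.center (Matrix.symplecticGroup (Fin 4) F) = ⊥ := by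
  rw [Subgroup.eq_bot_iff_forall]
  intro z hz
  rcases center_scalar (by norm_num) (A := z) (fun v _ => ((Subgroup.mem_center_iff.1 hz) (tv v 1)).symm) with h | h
  · exact Subtype.ext h
  · exact Subtype.ext (h.trans (Matrix.ext fun i j => by rw [Matrix.neg_apply, CharTwo.neg_eq]; rfl))

theorem orderOf_pr (A : Matrix.symplecticGroup (Fin 4) F) : orderOf (pr A : Cfsg.PSp 4 F) = orderOf A :=
  orderOf_injective (pr : Matrix.symplecticGroup (Fin 4) F →* Cfsg.PSp 4 F)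
    ((MonoidHom.ker_eq_bot_iff _).1 (by rw [QuotientGroup.ker_mk', center_sp])) A

theorem spectrum_eq (hab : ∀ z₁ z₂ : F, z₁ ^ 2 + a * z₁ * z₂ + b * z₂ ^ 2 = 0 → z₁ = 0 ∧ z₂ = 0) :
    Set.range (orderOf : Cfsg.PSp 4 F → ℕ) = Set.range (orderOf : ↥Om → ℕ) := by
  classical
  refine Set.Subset.antisymm ?_ ?_
  · rintro _ ⟨y, rfl⟩
    obtain ⟨A, rfl⟩ : ∃ A, pr A = y := QuotientGroup.mk'_surjective _ y
    obtain ⟨t, ht, hAt⟩ := exists_bound A
    obtain ⟨x, hx⟩ := exists_dvd_order hab (has_bound ht)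
    have hd : orderOf A ∣ orderOf x := (orderOf_dvd_of_pow_eq_one hAt).trans hx
    refine ⟨x ^ (orderOf x / orderOf A), ?_⟩
    rw [orderOf_pr, orderOf_pow_orderOf_div (orderOf_pos x).ne' hd]
  · rintro _ ⟨x, rfl⟩
    obtain ⟨A, hA⟩ := exists_sp hab x
    exact ⟨pr A, by rw [orderOf_pr, hA]⟩

end CfsgLib.Classical.MinusEightSpec
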