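import Mathlib
import Cfsg.Agent.Lib.Classical.MinusEightSpec.Realize

/-!
# Elements of `Ω⁻(8, q)` whose orders double in the natural semidirect product
-/

set_option autoImplicit false
set_option linter.all false

namespace CfsgLib.Classical.MinusEightSpec

open CfsgLib.Perm.Elusive CfsgLib.Classical

variable {F : Type*} [Field F] [Fintype F]

local notation "q" => Fintype.card F

theorem vec_two [CharP F 2] {V : Type*} [AddCommGroup V] [Module F V] (x : V) : x + x = 0 := by
  rw [← two_smul F x, CharTwo.two_eq_zero, zero_smul]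

theorem vec_neg [CharP F 2] {V : Type*} [AddCommGroup V] [Module F V] (x : V) : -x = x :=
  neg_eq_of_add_eq_zero_left (vec_two (F := F) x)

section ker

variable {U V : Type*} [AddCommGroup U] [Module F U] [FiniteDimensional F U] [AddCommGroup V] [Module F V]
  [FiniteDimensional F V]

theorem finrank_ker_prodMap (f : Module.End F U) (g : Module.End F V) :
    Module.finrank F (LinearMap.ker ((LinearMap.prodMap f g : Module.End F (U × V)) - 1)) =
      Module.finrank F (LinearMap.ker (f - 1)) + Module.finrank F (LinearMap.ker (g - 1)) := by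
  have h : LinearMap.ker ((LinearMap.prodMap f g : Module.End F (U × V)) - 1) =
      (LinearMap.ker (f - 1)).prod (LinearMap.ker (g - 1)) := by
    ext x
    simp [Submodule.mem_prod, LinearMap.mem_ker, Prod.ext_iff, sub_eq_zero]
  let e : ((LinearMap.ker (f - 1)).prod (LinearMap.ker (g - 1))) ≃ₗ[F] LinearMap.ker (f - 1) × LinearMap.ker (g - 1) :=
    { toFun := fun x => (⟨x.1.1, x.2.1⟩, ⟨x.1.2, x.2.2⟩)
      map_add' := fun x y => rfl
      map_smul' := fun c x => rfl
      invFun := fun x => ⟨(x.1.1, x.2.1), x.1.2, x.2.2⟩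
      left_inv := fun x => rfl
      right_inv := fun x => rfl }
  rw [h, e.finrank_eq, Module.finrank_prod]

theorem finrank_ker_conj (L : U ≃ₗ[F] V) (f : Module.End F U) :
    Module.finrank F (LinearMap.ker (L.conjAlgEquiv F f - 1)) = Module.finrank F (LinearMap.ker (f - 1)) := by
  have h : LinearMap.ker (L.conjAlgEquiv F f - 1) = (LinearMap.ker (f - 1)).map L.toLinearMap := by
    ext x
    simp only [LinearMap.mem_ker, LinearMap.sub_apply, Module.End.one_apply, Submodule.mem_map, sub_eq_zero]
    constructor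
    · intro hx
      refine ⟨L.symm x, ?_, by simp⟩
      apply L.injective
      simpa using hx
    · rintro ⟨y, hy, rfl⟩
      simp [hy]
  rw [h, LinearEquiv.finrank_map_eq]

end ker

theorem sum_periodic {R : Type*} [Semiring R] {u : R} {s : ℕ} (hu : u ^ s = 1) (r : ℕ) :
    ∑ i ∈ Finset.range (r * s), u ^ i = r • ∑ i ∈ Finset.range s, u ^ i := by
  induction r with
  | zero => simp
  | succ r ih =>
    rw [Nat.succ_mul, Finset.sum_range_add, ih, succ_nsmul]
    congr 1
    refine Finset.sum_congr rfl fun i _ => ?_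
    rw [pow_add, mul_comm r s, pow_mul, hu, one_pow, one_mul]

theorem prodMap_sum_snd {U V : Type*} [AddCommGroup U] [Module F U] [AddCommGroup V] [Module F V]
    (f : Module.End F U) (g : Module.End F V) (n : ℕ) (x : V) :
    ((∑ i ∈ Finset.range n, (LinearMap.prodMap f g : Module.End F (U × V)) ^ i) (0, x)).2 =
      (∑ i ∈ Finset.range n, g ^ i) x := by
  rw [LinearMap.sum_apply, LinearMap.sum_apply, Prod.snd_sum]
  exact Finset.sum_congr rfl fun i _ => by rw [prodMap_pow]

/-- unipotent data: the sum of the powers is non-zero and the fixed space has even dimension -/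
def HasU (F : Type*) [Field F] [Fintype F] (ε : Bool) (h e : ℕ) : Prop :=
  ∃ (Q : QuadraticForm F (Fin (2 * h) → F)) (u : Module.End F (Fin (2 * h) → F)),
    (QuadraticMap.polarBilin Q).Nondegenerate ∧ (QPlus Q ⊤ ↔ ε = true) ∧ (∀ v, Q (u v) = Q v) ∧ u ^ 2 ^ e = 1 ∧
      (∑ i ∈ Finset.range (2 ^ e), u ^ i) ≠ 0 ∧ Even (Module.finrank F (LinearMap.ker (u - 1)))

theorem hasU_of_model {V : Type*} [AddCommGroup V] [Module F V] [FiniteDimensional F V] {ε : Bool} {h e : ℕ}
    (Q : QuadraticForm F V) (hQ : (QuadraticMap.polarBilin Q).Nondegenerate) (hd : Module.finrank F V = 2 * h)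
    (hε : QPlus Q ⊤ ↔ ε = true) (u : Module.End F V) (hI : ∀ v, Q (u v) = Q v) (hu : u ^ 2 ^ e = 1)
    (hS : (∑ i ∈ Finset.range (2 ^ e), u ^ i) ≠ 0) (hK : Even (Module.finrank F (LinearMap.ker (u - 1)))) :
    HasU F ε h e := by
  let L : (Fin (2 * h) → F) ≃ₗ[F] V := LinearEquiv.ofFinrankEq _ _ (by rw [Module.finrank_fin_fun, hd])
  refine ⟨Q.comp L.toLinearMap, L.symm.conjAlgEquiv F u, nondeg_of_polar fun x hx => ?_, ?_, fun v => ?_,
    by rw [← map_pow, hu, map_one], ?_, by rwa [finrank_ker_conj]⟩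
  · refine L.map_eq_zero_iff.1 (hQ.1 _ fun y => ?_)
    obtain ⟨y, rfl⟩ := L.surjective y
    simpa [QuadraticMap.polar] using hx y
  · rw [← qplus_equiv (Q := Q) (S := Q.comp L.toLinearMap) L (fun v => rfl), hε]
  · simp [hI]
  · simp only [← map_pow, ← map_sum]
    exact fun h0 => hS ((map_eq_zero_iff (L.symm.conjAlgEquiv F) (L.symm.conjAlgEquiv F).injective).1 h0)

theorem ker_invol_plane [CharP F 2] {V : Type*} [AddCommGroup V] [Module F V] [FiniteDimensional F V]
    (f : Module.End F V) (hd : Module.finrank F V = 2) (hf : f ^ 2 = 1) (hne : f ≠ 1) :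
    Module.finrank F (LinearMap.ker (f - 1)) = 1 := by
  have hle : LinearMap.range (f - 1) ≤ LinearMap.ker (f - 1) := by
    rintro _ ⟨x, rfl⟩
    rw [LinearMap.mem_ker]
    have h := LinearMap.congr_fun hf x
    rw [sq, Module.End.mul_apply, Module.End.one_apply] at h
    simp only [LinearMap.sub_apply, Module.End.one_apply, map_sub, h]
    calc x - f x - (f x - x) = (2 : F) • (x - f x) := by rw [two_smul]; abel
      _ = 0 := by rw [CharTwo.two_eq_zero, zero_smul]
  have h1 := LinearMap.finrank_range_add_finrank_ker (f - 1)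
  have h2 := Submodule.finrank_mono hle
  have h3 : Module.finrank F (LinearMap.range (f - 1)) ≠ 0 := by
    rw [Ne, Submodule.finrank_eq_zero, LinearMap.range_eq_bot, sub_eq_zero]
    exact hne
  omega

/-- the three kinds of unipotent data -/
theorem hasU_cases [CharP F 2] (ε : Bool) : HasU F ε 1 0 ∧ HasU F ε 2 1 ∧ HasU F ε 3 2 := by
  obtain ⟨Q, f, w, hQ, hε, hI, hf, hw, hb⟩ := plane_data (F := F) ε
  obtain ⟨P, g, z, hP, hεP, hIP, hg, hz, -⟩ := plane_data (F := F) true
  have hd : Module.finrank F (Fin (2 * 1) → F) = 2 * 1 := Module.finrank_fin_fun F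
  have hf1 : f ≠ 1 := fun h => hw (by rw [h, Module.End.one_apply])
  have hg1 : g ≠ 1 := fun h => hz (by rw [h, Module.End.one_apply])
  have hkf := ker_invol_plane f hd hf hf1
  have hkg := ker_invol_plane g hd hg hg1
  have hPp : QPlus P ⊤ := hεP.2 rfl
  refine ⟨⟨Q, 1, hQ, hε, fun v => rfl, by simp, ?_, ?_⟩, ?_, ?_⟩
  · rw [pow_zero, Finset.sum_range_one, pow_zero]
    intro h
    refine hw ?_
    have := LinearMap.congr_fun h (f w - w)
    simpa [sub_eq_zero] using this
  · rw [sub_self, LinearMap.ker_zero, finrank_top, hd]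
    exact even_two_mul 1
  · refine hasU_of_model (Q.prod P) (prod_nondeg hQ hP) (by rw [Module.finrank_prod, hd]) ?_ (LinearMap.prodMap f g)
      (fun v => by simp [QuadraticMap.prod_apply, hI, hIP]) ?_ ?_ ?_
    · rw [qplus_prod hQ hP hd hd, hε]
      simp [hPp]
    · refine LinearMap.ext fun x => ?_
      rw [prodMap_pow, pow_one, hf, hg]
      rfl
    · intro h
      refine hf1 (LinearMap.ext fun x => ?_)
      have := congrArg Prod.fst (LinearMap.congr_fun h (x, 0))
      simp [Finset.sum_range_succ] at this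
      rw [eq_neg_of_add_eq_zero_right this, Module.End.one_apply]
      exact vec_neg (F := F) x
    · rw [finrank_ker_prodMap, hkf, hkg]
      exact ⟨1, rfl⟩
  · let Q₂ : QuadraticForm F ((F × F) × (Fin (2 * 1) → F)) := (hypPlane F).prod Q
    have hh : Module.finrank F (F × F) = 2 * 1 := by rw [Module.finrank_prod, Module.finrank_self]
    have hd₂ : Module.finrank F ((F × F) × (Fin (2 * 1) → F)) = 2 * 2 := by rw [Module.finrank_prod, hd, hh]
    have hQ₂ : (QuadraticMap.polarBilin Q₂).Nondegenerate := prod_nondeg hypPlane_nondeg hQ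
    have hε₂ : QPlus Q₂ ⊤ ↔ ε = true :=
      (qplus_prod hypPlane_nondeg hQ hh hd).trans ((iff_congr (iff_true_intro qplus_hypPlane) hε).trans (by simp))
    let u := extMap Q f w
    have hff : ∀ v, f (f v) = v := fun v => by rw [← Module.End.mul_apply, ← sq, hf, Module.End.one_apply]
    have hu4 : u ^ 2 ^ 2 = 1 := by
      refine LinearMap.ext fun x => ?_
      rw [show (2 : ℕ) ^ 2 = 4 by norm_num]
      simp only [u, pow_succ', pow_zero, mul_one, Module.End.mul_apply, extMap_apply, Module.End.one_apply]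
      refine Prod.ext (Prod.ext ?_ rfl) ?_
      · simp [hff, QuadraticMap.polar_add_right, QuadraticMap.polar_smul_right, QuadraticMap.polar_self]
        ring_nf
        simp [CharTwo.two_eq_zero, show (4 : F) = 0 by linear_combination (2 : F) * (CharTwo.two_eq_zero : (2 : F) = 0),
          show (8 : F) = 0 by linear_combination (4 : F) * (CharTwo.two_eq_zero : (2 : F) = 0)]
      · simp [hff]
        calc _ = x.2 + ((x.1.2 • f w + x.1.2 • w) + (x.1.2 • f w + x.1.2 • w)) := by abel
          _ = x.2 := by rw [vec_two (F := F), add_zero]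
    have hku : Module.finrank F (LinearMap.ker (u - 1)) = 1 := by
      have hfix : f (f w + w) = f w + w := by rw [map_add, hff, add_comm]
      have hne : f w + w ≠ 0 := fun h => hw (CharTwo.add_eq_zero.1 h |> fun e => e)
      have hker : ∀ v, f v = v → ∃ c : F, v = c • (f w + w) := fun v hv => by
        have hmem : ∀ y, f y = y → y ∈ LinearMap.ker (f - 1) := fun y hy => by simp [hy]
        obtain ⟨c, hc⟩ := (finrank_eq_one_iff_of_nonzero' (⟨f w + w, hmem _ hfix⟩ : LinearMap.ker (f - 1))
          (fun h => hne (congrArg Subtype.val h))).1 hkf ⟨v, hmem v hv⟩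
        exact ⟨c, (congrArg Subtype.val hc).symm⟩
      have h : LinearMap.ker (u - 1) = Submodule.span F {(((1 : F), (0 : F)), (0 : Fin (2 * 1) → F))} := by
        refine le_antisymm (fun x hx => ?_) ?_
        · rw [LinearMap.mem_ker, LinearMap.sub_apply, Module.End.one_apply, sub_eq_zero] at hx
          have hx1 := congrArg (fun y => y.1.1) hx
          have hx2 := congrArg Prod.snd hx
          simp only [u, extMap_apply] at hx1 hx2
          have hy : x.1.2 = 0 := by
            by_contra hy
            refine hw ?_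
            have hfw : x.1.2 • f w = x.1.2 • w := by
              have h1 := congrArg f hx2
              rw [map_add, map_smul, hff] at h1
              calc x.1.2 • f w = f x.2 - x.2 := by rw [← h1]; abel
                _ = f x.2 - (f x.2 + x.1.2 • w) := by rw [hx2]
                _ = -(x.1.2 • w) := by abel
                _ = x.1.2 • w := vec_neg (F := F) _
            exact smul_right_injective _ hy hfw
          rw [hy, zero_smul, add_zero] at hx2
          obtain ⟨c, hc⟩ := hker x.2 hx2
          rw [hy, mul_zero, add_zero, hx2, add_eq_left, hc, QuadraticMap.polar_smul_right, QuadraticMap.polar_add_right,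
            QuadraticMap.polar_self] at hx1
          simp only [CharTwo.two_eq_zero, zero_mul, add_zero, smul_eq_mul, mul_eq_zero, zero_nsmul, two_smul] at hx1
          have hc0 : c = 0 := by
            rcases hx1 with h | h
            · exact h
            · simp [CharTwo.add_self_eq_zero] at h
              exact absurd h hb
          rw [Submodule.mem_span_singleton]
          refine ⟨x.1.1, Prod.ext (Prod.ext ?_ ?_) ?_⟩ <;> simp [hy, hc, hc0]
        · rw [Submodule.span_singleton_le_iff_mem, LinearMap.mem_ker, LinearMap.sub_apply, Module.End.one_apply, sub_eq_zero]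
          simp [u, extMap_apply]
      rw [h, finrank_span_singleton (by simp)]
    refine hasU_of_model (Q₂.prod P) (prod_nondeg hQ₂ hP) (by rw [Module.finrank_prod, hd₂, hd]) ?_
      (LinearMap.prodMap u g) (fun v => ?_) ?_ ?_ ?_
    · rw [qplus_prod hQ₂ hP hd₂ hd, hε₂]
      simp [hPp]
    · simp only [QuadraticMap.prod_apply, LinearMap.prodMap_apply, hIP]
      rw [extMap_isometry Q f hI w]
    · refine LinearMap.ext fun x => ?_
      rw [prodMap_pow, hu4, show (2 : ℕ) ^ 2 = 2 * 2 by norm_num, pow_mul, hg, one_pow]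
      rfl
    · intro h
      refine hb ?_
      have := congrArg Prod.fst (LinearMap.congr_fun h ((((0 : F), (1 : F)), (0 : Fin (2 * 1) → F)), 0))
      simp [Finset.sum_range_succ, u, pow_succ', Module.End.mul_apply, extMap_apply, hff, Prod.ext_iff,
        QuadraticMap.polar_add_right, QuadraticMap.polar_self] at this
      linear_combination this.1.1 - (4 * Q w + QuadraticMap.polar Q w (f w)) * (CharTwo.two_eq_zero : (2 : F) = 0)
    · rw [finrank_ker_prodMap, hku, hkg]
      exact ⟨1, rfl⟩

/-- what is needed in the group: an odd element, or an odd element times a doubling unipotent one -/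
def HasCov (F : Type*) [Field F] [Fintype F] (t : ℕ) : Prop :=
  ∃ (Q : QuadraticForm F (Fin (2 * 4) → F)), (QuadraticMap.polarBilin Q).Nondegenerate ∧ ¬ QPlus Q ⊤ ∧
    ((∃ (f : Module.End F (Fin (2 * 4) → F)) (r : ℕ), Odd r ∧ f ^ r = 1 ∧ (∀ v, Q (f v) = Q v) ∧ t ∣ orderOf f) ∨
      ∃ (f u : Module.End F (Fin (2 * 4) → F)) (r e : ℕ), Odd r ∧ f ^ r = 1 ∧ (∀ v, Q (f v) = Q v) ∧
        (∀ v, Q (u v) = Q v) ∧ Commute f u ∧ u ^ 2 ^ e = 1 ∧ Even (Module.finrank F (LinearMap.ker (u - 1))) ∧
        (∑ i ∈ Finset.range (r * 2 ^ e), (f * u) ^ i) ≠ 0 ∧ t ∣ orderOf f * 2 ^ (e + 1))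

/-- the odd part of a torus element -/
theorem has_odd_part {ε : Bool} {h N : ℕ} (hN : Odd N) (H : Has F ε h N) :
    ∃ (Q : QuadraticForm F (Fin (2 * h) → F)) (f : Module.End F (Fin (2 * h) → F)) (r : ℕ),
      (QuadraticMap.polarBilin Q).Nondegenerate ∧ (QPlus Q ⊤ ↔ ε = true) ∧ (∀ v, Q (f v) = Q v) ∧
        Odd r ∧ f ^ r = 1 ∧ N ∣ orderOf f := by
  obtain ⟨Q, f, hQ, hε, hI, hd⟩ := H
  have hne : orderOf f ≠ 0 := by
    intro h0
    have hinj : Function.Injective f := by
      refine (injective_iff_map_eq_zero f).2 fun v hv => hQ.1 v fun y => ?_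
      show QuadraticMap.polar Q v y = 0
      rw [← CfsgLib.Perm.Elusive.polar_map hI, hv]
      simp [QuadraticMap.polar]
    obtain ⟨U, hU⟩ := (Module.End.isUnit_iff f).2 ⟨hinj, LinearMap.surjective_of_injective hinj⟩
    rw [← hU, orderOf_units] at h0
    haveI : Finite (Module.End F (Fin (2 * h) → F)) := Finite.of_injective _ DFunLike.coe_injective
    exact (orderOf_pos U).ne' h0
  obtain ⟨x, r, hr, hxr⟩ := Nat.exists_eq_two_pow_mul_odd hne
  have hpI : ∀ n v, Q ((f ^ n) v) = Q v := fun n => by
    induction n with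
    | zero => intro v; rfl
    | succ n ih => intro v; rw [pow_succ', Module.End.mul_apply, hI, ih]
  refine ⟨Q, f ^ 2 ^ x, r, hQ, hε, hpI _, hr, by rw [← pow_mul, ← hxr, pow_orderOf_eq_one], ?_⟩
  rw [orderOf_pow' f (pow_ne_zero x two_ne_zero), hxr, Nat.gcd_eq_right (dvd_mul_right _ _),
    Nat.mul_div_cancel_left _ (Nat.two_pow_pos x)]
  exact (Nat.Coprime.pow_right x (Nat.coprime_two_right.2 hN)).dvd_of_dvd_mul_left (hxr ▸ hd)

theorem cov_of_odd {t : ℕ} (ht : Odd t) (H : Has F false 4 t) : HasCov F t := by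
  obtain ⟨Q, f, r, hQ, hε, hI, hr, hf, hd⟩ := has_odd_part ht H
  exact ⟨Q, hQ, fun h => Bool.false_ne_true (hε.1 h), Or.inl ⟨f, r, hr, hf, hI, hd⟩⟩

theorem cov_of_sum [CharP F 2] {ε ε' : Bool} {h h' N e : ℕ} (hN : Odd N) (hh : h + h' = 4) (hee : (ε == ε') = false)
    (H : Has F ε h N) (H' : HasU F ε' h' e) : HasCov F (N * 2 ^ (e + 1)) := by
  obtain ⟨P, f, r, hP, hεP, hIP, hr, hf, hd⟩ := has_odd_part hN H
  obtain ⟨R, u, hR, hεR, hIR, hu, hS, hK⟩ := H'
  have hfr : Module.finrank F ((Fin (2 * h) → F) × (Fin (2 * h') → F)) = 2 * 4 := by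
    rw [Module.finrank_prod, Module.finrank_fin_fun, Module.finrank_fin_fun]; omega
  let L : (Fin (2 * 4) → F) ≃ₗ[F] (Fin (2 * h) → F) × (Fin (2 * h') → F) :=
    LinearEquiv.ofFinrankEq _ _ (by rw [Module.finrank_fin_fun, hfr])
  let c : Module.End F ((Fin (2 * h) → F) × (Fin (2 * h') → F)) ≃ₐ[F] Module.End F (Fin (2 * 4) → F) :=
    L.symm.conjAlgEquiv F
  let Z : QuadraticForm F (Fin (2 * 4) → F) := (P.prod R).comp L.toLinearMap
  have hc : ∀ g v, L (c g v) = g (L v) := fun g v => by simp [c]
  refine ⟨Z, nondeg_of_polar fun x hx => ?_, fun hp => ?_, Or.inr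
    ⟨c (LinearMap.prodMap f 1), c (LinearMap.prodMap 1 u), r, e, hr, ?_, fun v => ?_, fun v => ?_, ?_, ?_, ?_, ?_, ?_⟩⟩
  · refine L.map_eq_zero_iff.1 ((prod_nondeg hP hR).1 _ fun y => ?_)
    obtain ⟨y, rfl⟩ := L.surjective y
    have := hx y
    simp [Z, QuadraticMap.polar] at this ⊢
    linear_combination this
  · have h1 := (qplus_equiv (Q := P.prod R) (S := Z) L (fun v => rfl)).2 hp
    rw [qplus_prod hP hR (Module.finrank_fin_fun F) (Module.finrank_fin_fun F), hεP, hεR] at h1
    cases ε <;> cases ε' <;> simp_all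
  · rw [← map_pow]
    refine (congrArg c (LinearMap.ext fun x => ?_)).trans (map_one c)
    rw [prodMap_pow, hf, one_pow]
    rfl
  · show (P.prod R) (L (c _ v)) = (P.prod R) (L v)
    simp [hc, QuadraticMap.prod_apply, hIP]
  · show (P.prod R) (L (c _ v)) = (P.prod R) (L v)
    simp [hc, QuadraticMap.prod_apply, hIR]
  · refine Commute.map ?_ c
    exact LinearMap.ext fun x => rfl
  · rw [← map_pow]
    refine (congrArg c (LinearMap.ext fun x => ?_)).trans (map_one c)
    rw [prodMap_pow, hu, one_pow]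
    rfl
  · rw [finrank_ker_conj, finrank_ker_prodMap, sub_self, LinearMap.ker_zero, finrank_top, Module.finrank_fin_fun]
    exact (even_two_mul h).add hK
  · rw [← map_mul]
    simp only [← map_pow, ← map_sum]
    intro h0
    have h1 := (map_eq_zero_iff c c.injective).1 h0
    refine hS (LinearMap.ext fun x => ?_)
    have h2 := congrArg Prod.snd (LinearMap.congr_fun h1 ((0 : Fin (2 * h) → F), x))
    rw [show (LinearMap.prodMap f 1 * LinearMap.prodMap (1 : Module.End F (Fin (2 * h) → F)) u :
      Module.End F ((Fin (2 * h) → F) × (Fin (2 * h') → F))) = LinearMap.prodMap f u from LinearMap.ext fun y => rfl,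
      prodMap_sum_snd, sum_periodic hu r] at h2
    obtain ⟨k, hk⟩ := hr
    rw [hk, LinearMap.smul_apply, add_nsmul, mul_nsmul, one_nsmul, two_smul,
      vec_two (F := F), smul_zero, zero_add] at h2
    simpa using h2
  · refine mul_dvd_mul ?_ dvd_rfl
    rw [show orderOf (c (LinearMap.prodMap f 1)) = orderOf (LinearMap.prodMap f 1 : Module.End F _) from
      MulEquiv.orderOf_eq c.toMulEquiv _]
    refine hd.trans (orderOf_dvd_of_pow_eq_one (LinearMap.ext fun x => ?_))
    have := congrArg Prod.fst ((prodMap_pow f (1 : Module.End F (Fin (2 * h') → F)) _ (x, 0)).symm.trans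
      (LinearMap.congr_fun (pow_orderOf_eq_one (LinearMap.prodMap f (1 : Module.End F (Fin (2 * h') → F)) :
        Module.End F _)) (x, 0)))
    simpa using this

/-- all numbers of the list -/
theorem hasCov_bound [CharP F 2] {t : ℕ} (ht : IsBound q t) : HasCov F t := by
  have hq2 : 2 ≤ q := Fintype.one_lt_card
  have hqe := q_two_dvd (F := F)
  have hq1 : Odd (q - 1) := by rw [Nat.odd_iff]; omega
  have hq1' : Odd (q + 1) := by rw [Nat.odd_iff]; omega
  have hp1 : ∀ d, 1 ≤ d → Odd (q ^ d - 1) ∧ Odd (q ^ d + 1) := fun d hd => by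
    have : 2 ∣ q ^ d := dvd_trans hqe (dvd_pow_self q (by omega))
    have : 1 ≤ q ^ d := Nat.one_le_pow _ _ (by omega)
    constructor <;> rw [Nat.odd_iff] <;> omega
  have hlcm : ∀ {x y : ℕ}, Odd x → Odd y → Odd (Nat.lcm x y) := fun hx hy => (hx.mul hy).of_dvd_nat (Nat.lcm_dvd_mul _ _)
  have h1p : Has F true 1 (q - 1) := by simpa using has_plus_torus (F := F) (d := 1) le_rfl
  have h1m : Has F false 1 (q + 1) := by simpa using has_minus_torus (F := F) (d := 1) le_rfl
  have h2p := has_plus_torus (F := F) (d := 2) (by norm_num)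
  have h2m := has_minus_torus (F := F) (d := 2) (by norm_num)
  have h3p := has_plus_torus (F := F) (d := 3) (by norm_num)
  have h3m := has_minus_torus (F := F) (d := 3) (by norm_num)
  have hb := has_bound (F := F) ht
  rcases ht with rfl | rfl | rfl | rfl | rfl | rfl | rfl | rfl | rfl | rfl | rfl | rfl
  · exact cov_of_odd (hp1 4 (by norm_num)).2 hb
  · exact cov_of_odd (hp1 4 (by norm_num)).1 hb
  · exact cov_of_sum (hp1 3 (by norm_num)).2 rfl rfl h3m (hasU_cases true).1
  · exact cov_of_sum (hp1 3 (by norm_num)).1 rfl rfl h3p (hasU_cases false).1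
  · exact cov_of_odd (hlcm (hp1 3 (by norm_num)).2 hq1) hb
  · exact cov_of_odd (hlcm (hp1 3 (by norm_num)).1 hq1') hb
  · exact cov_of_sum hq1 rfl rfl h1p (hasU_cases false).2.2
  · exact cov_of_sum hq1' rfl rfl h1m (hasU_cases true).2.2
  · exact cov_of_sum (hp1 2 (by norm_num)).1 rfl rfl h2p (hasU_cases false).2.1
  · exact cov_of_sum (hp1 2 (by norm_num)).2 rfl rfl h2m (hasU_cases true).2.1
  · exact cov_of_sum (hlcm (hp1 2 (by norm_num)).2 hq1) rfl rfl (h2m.sum h1p) (hasU_cases true).1
  · exact cov_of_sum (hlcm (hp1 2 (by norm_num)).2 hq1') rfl rfl (h2m.sum h1m) (hasU_cases false).1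

end CfsgLib.Classical.MinusEightSpec
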