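import Mathlib
import Cfsg.Agent.Lib.Classical.MinusEightSpec.Bound

/-!
# Doubling an element order in `Sp(8, q)`, `q` even

If an element of order `n = 2 ^ a * m` has a large enough space of generalised fixed vectors, then `2 * n` still
divides a number of the list.
-/

set_option autoImplicit false
set_option linter.all false

namespace CfsgLib.Classical.MinusEightSpec

open Polynomial Matrix CfsgLib.Classical.RootOrbits

section chain

variable {F : Type*} [Field F] {V : Type*} [AddCommGroup V] [Module F V] [FiniteDimensional F V]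

/-- a vector of height `n` gives `n` dimensions of generalised fixed vectors -/
theorem chain_bound (f : Module.End F V) {n : ℕ} (hn : 1 ≤ n) {v : V} (h : ((f - 1) ^ (n - 1)) v ≠ 0)
    (h0 : ((f - 1) ^ n) v = 0) :
    1 ≤ Module.finrank F (LinearMap.ker (f - 1)) ∧
      Module.finrank F (LinearMap.ker (f - 1)) + (n - 1) ≤ Module.finrank F (f.maxGenEigenspace 1) := by
  obtain ⟨N, hN⟩ : ∃ N, N = f - 1 := ⟨_, rfl⟩
  rw [← hN] at h h0 ⊢
  have key : ∀ j, j + 1 ≤ n → Module.finrank F (LinearMap.ker N) + j ≤ Module.finrank F (LinearMap.ker (N ^ (j + 1))) := by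
    intro j
    induction j with
    | zero => intro _; rw [add_zero, zero_add, pow_one]
    | succ j ih =>
      intro hj
      have hlt : LinearMap.ker (N ^ (j + 1)) < LinearMap.ker (N ^ (j + 1 + 1)) := by
        refine lt_of_le_of_ne (fun x hx => ?_) fun e => h ?_
        · rw [LinearMap.mem_ker] at hx ⊢
          rw [pow_succ', Module.End.mul_apply, hx, map_zero]
        · have hm : (N ^ (n - (j + 2))) v ∈ LinearMap.ker (N ^ (j + 1 + 1)) := by
            rw [LinearMap.mem_ker, ← Module.End.mul_apply, ← pow_add, show j + 1 + 1 + (n - (j + 2)) = n by omega, h0]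
          rw [← e, LinearMap.mem_ker, ← Module.End.mul_apply, ← pow_add,
            show j + 1 + (n - (j + 2)) = n - 1 by omega] at hm
          exact hm
      have := Submodule.finrank_lt_finrank_of_lt hlt
      have := ih (by omega)
      omega
  refine ⟨?_, ?_⟩
  · rw [Nat.one_le_iff_ne_zero, ne_eq, Submodule.finrank_eq_zero]
    intro e
    refine h ?_
    have hm : (N ^ (n - 1)) v ∈ LinearMap.ker N := by
      rw [LinearMap.mem_ker, ← Module.End.mul_apply, ← pow_succ', Nat.sub_add_cancel hn, h0]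
    rw [e] at hm
    simpa using hm
  · refine le_trans (key (n - 1) (by omega)) (Submodule.finrank_mono fun x hx => ?_)
    rw [Module.End.mem_maxGenEigenspace]
    refine ⟨n - 1 + 1, ?_⟩
    rw [one_smul, ← hN]
    exact hx

/-- the sum of the powers, in characteristic two -/
theorem geom_vector [CharP F 2] (f : Module.End F V) {a m : ℕ} (hf : f ^ (2 ^ a * m) = 1) {v : V}
    (hv : (∑ i ∈ Finset.range (2 ^ a * m), f ^ i) v ≠ 0) :
    ∃ w : V, (((f - 1) ^ (2 ^ a - 1) : Module.End F V)) w ≠ 0 ∧ (((f - 1) ^ 2 ^ a : Module.End F V)) w = 0 := by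
  haveI : Fact (Nat.Prime 2) := ⟨Nat.prime_two⟩
  obtain ⟨P, hP⟩ : ∃ P : F[X], P = ∑ i ∈ Finset.range m, X ^ i := ⟨_, rfl⟩
  have hpos : 1 ≤ 2 ^ a := Nat.one_le_two_pow
  have h1 : ((X : F[X]) - 1) ^ 2 ^ a * P ^ 2 ^ a = X ^ (2 ^ a * m) - 1 := by
    rw [← mul_pow, hP, mul_geom_sum, sub_pow_char_pow, one_pow, ← pow_mul, mul_comm]
  have h2 : (∑ i ∈ Finset.range (2 ^ a * m), (X : F[X]) ^ i) = (X - 1) ^ (2 ^ a - 1) * P ^ 2 ^ a := by
    refine mul_left_cancel₀ (X_sub_C_ne_zero (1 : F)) ?_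
    rw [map_one, mul_geom_sum, ← mul_assoc, ← pow_succ', Nat.sub_add_cancel hpos, h1]
  have h3 := congrArg (fun p => aeval f p v) h2
  have h4 := congrArg (fun p => aeval f p v) h1
  simp only [map_sum, map_pow, aeval_X, map_mul, map_sub, map_one, Module.End.mul_apply] at h3 h4
  rw [hf, sub_self, LinearMap.zero_apply] at h4
  exact ⟨_, h3 ▸ hv, h4⟩

end chain

variable {F : Type*} [Field F] [Fintype F]

local notation "q" => Fintype.card F
local notation "K" => AlgebraicClosure F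
local notation "SP8" => Matrix.symplecticGroup (Fin 4) F

theorem count_one_eq [DecidableEq K] {ι : Type*} [Fintype ι] [DecidableEq ι] (M : Matrix ι ι F) :
    Multiset.count (1 : K) (eig M) = Module.finrank F (Module.End.maxGenEigenspace (Matrix.toLin' M) (1 : F)) := by
  rw [eig, count_roots, Matrix.charpoly_map, LinearMap.finrank_maxGenEigenspace_eq, Matrix.charpoly_toLin',
    eq_rootMultiplicity_map (algebraMap F K).injective (1 : F), map_one]

/-- twice an order still divides a number of the list -/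
theorem double_bound [CharP F 2] [DecidableEq K] (A : SP8) {a m : ℕ} (hm : Odd m) (ho : orderOf A = 2 ^ a * m)
    (h1 : 1 ≤ Multiset.count (1 : K) (eig (A : Matrix (Fin 4 ⊕ Fin 4) (Fin 4 ⊕ Fin 4) F)))
    (ha : 1 ≤ a → 2 ^ a + 2 ≤ Multiset.count (1 : K) (eig (A : Matrix (Fin 4 ⊕ Fin 4) (Fin 4 ⊕ Fin 4) F))) :
    ∃ t, IsBound q t ∧ 2 ^ (a + 1) * m ∣ t := by
  classical
  have hq2 : 2 ≤ q := two_le_q
  have h2 : 4 ≤ q ^ 2 := le_trans (by norm_num) (Nat.pow_le_pow_left hq2 2)
  have h3 : 8 ≤ q ^ 3 := le_trans (by norm_num) (Nat.pow_le_pow_left hq2 3)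
  have hev := count_one_even A
  have hc8 : ∀ x, Multiset.count x (eig (A : Matrix (Fin 4 ⊕ Fin 4) (Fin 4 ⊕ Fin 4) F)) ≤ 2 ^ 3 := fun x => by
    have := sum_le A {x}
    simpa using this
  have h18 := hc8 1
  obtain ⟨c, hc⟩ := hev
  have fin : ∀ N e, 0 < N → a + 1 ≤ e → IsBound q (N * 2 ^ e) →
      (∀ x ∈ eig (A : Matrix (Fin 4 ⊕ Fin 4) (Fin 4 ⊕ Fin 4) F), x ≠ 1 → x ^ N = 1) →
      ∃ t, IsBound q t ∧ 2 ^ (a + 1) * m ∣ t := by
    intro N e hN he hB h
    refine ⟨_, hB, ?_⟩
    have hd : orderOf A ∣ N * 2 ^ 3 := orderOf_dvd_of_pow_eq_one (Subtype.ext (by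
      rw [SubmonoidClass.coe_pow, pow_mul_two_pow _ hN (fun x hx => ?_) hc8]
      · rfl
      · by_cases hx1 : x = 1
        · rw [hx1, one_pow]
        · exact h x hx hx1))
    rw [ho] at hd
    have hmN : m ∣ N :=
      (Nat.Coprime.pow_right 3 (Nat.coprime_two_right.2 hm)).dvd_of_dvd_mul_right (dvd_trans (dvd_mul_left _ _) hd)
    rw [mul_comm N]
    exact mul_dvd_mul (pow_dvd_pow 2 he) hmN
  have hsq : ∀ x ∈ eig (A : Matrix (Fin 4 ⊕ Fin 4) (Fin 4 ⊕ Fin 4) F), ∀ O, OrbData (A : Matrix (Fin 4 ⊕ Fin 4) (Fin 4 ⊕ Fin 4) F) x 1 O →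
      x ^ (q ^ 2 - 1) = 1 := fun x hx O hO => by
    rcases orb_exponent A hO hx with h | h
    · exact pow_of_dvd (by simpa using Nat.sub_dvd_pow_sub_pow q 1 2) h
    · refine pow_of_dvd ?_ h
      rw [pow_one]
      exact ⟨q - 1, by rw [← Nat.sq_sub_sq, one_pow]⟩
  by_cases ha2 : 2 ≤ a
  · have h6 : 6 ≤ Multiset.count (1 : K) (eig (A : Matrix (Fin 4 ⊕ Fin 4) (Fin 4 ⊕ Fin 4) F)) := by
      have := ha (by omega)
      have : 2 ^ 2 ≤ 2 ^ a := Nat.pow_le_pow_right (by norm_num) ha2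
      omega
    have ha3 : a + 1 ≤ 3 := by
      by_contra hh
      have := ha (by omega)
      have : 2 ^ 3 ≤ 2 ^ a := Nat.pow_le_pow_right (by norm_num) (by omega)
      omega
    by_cases hb : ∃ b ∈ eig (A : Matrix (Fin 4 ⊕ Fin 4) (Fin 4 ⊕ Fin 4) F), b ≠ 1
    · obtain ⟨b, hb, hb1⟩ := hb
      obtain ⟨e, P, hP⟩ := orb_exists A hb hb1
      have hcb := Multiset.count_pos.2 hb
      have := weight_one A hP
      have := hP.one_le
      obtain rfl : e = 1 := by nlinarith
      have hall : ∀ x ∈ eig (A : Matrix (Fin 4 ⊕ Fin 4) (Fin 4 ⊕ Fin 4) F), x ≠ 1 → x ∈ P := fun x hx hx1 => by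
        by_contra hxP
        obtain ⟨f, R, hR⟩ := orb_exists A hx hx1
        have := weight_two A hP hR hx hxP
        have := Multiset.count_pos.2 hx
        have := hR.one_le
        nlinarith
      rcases orb_exponent A hP hb with h | h <;> rw [pow_one] at h
      · exact fin (q - 1) 3 (by omega) ha3 (by unfold IsBound; simp) fun x hx hx1 => hP.pow x (hall x hx hx1) _ h
      · exact fin (q + 1) 3 (by omega) ha3 (by unfold IsBound; simp) fun x hx hx1 => hP.pow x (hall x hx hx1) _ h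
    · push Not at hb
      exact fin (q - 1) 3 (by omega) ha3 (by unfold IsBound; simp) fun x hx hx1 => absurd (hb x hx) hx1
  by_cases hsmall : ∀ x ∈ eig (A : Matrix (Fin 4 ⊕ Fin 4) (Fin 4 ⊕ Fin 4) F), x ≠ 1 → x ^ (q ^ 2 - 1) = 1
  · exact fin (q ^ 2 - 1) 2 (by omega) (by omega) (by unfold IsBound; simp) hsmall
  push Not at hsmall
  obtain ⟨b, hb, hb1, hbN⟩ := hsmall
  obtain ⟨d, O, hO⟩ := orb_exists A hb hb1
  have hcb := Multiset.count_pos.2 hb
  have hw := weight_one A hO
  have hd1 := hO.one_le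
  have hdne : d ≠ 1 := fun h => by subst h; exact hbN (hsq b hb O hO)
  have hd3 : d ≤ 3 := by nlinarith
  rcases (show d = 2 ∨ d = 3 by omega) with rfl | rfl
  · have hbP : b ^ (q ^ 2 + 1) = 1 := (orb_exponent A hO hb).resolve_left hbN
    by_cases hplus : ∀ x ∈ eig (A : Matrix (Fin 4 ⊕ Fin 4) (Fin 4 ⊕ Fin 4) F), x ≠ 1 → x ∈ O
    · exact fin (q ^ 2 + 1) 2 (by omega) (by omega) (by unfold IsBound; simp)
        fun x hx hx1 => hO.pow x (hplus x hx hx1) _ hbP
    push Not at hplus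
    obtain ⟨y, hy, hy1, hyO⟩ := hplus
    obtain ⟨e, P, hP⟩ := orb_exists A hy hy1
    have hcy := Multiset.count_pos.2 hy
    have hw2 := weight_two A hO hP hy hyO
    have := hP.one_le
    obtain rfl : e = 1 := by nlinarith
    have ha0 : a = 0 := by
      by_contra h0
      have := ha (by omega)
      have : 2 ^ 1 ≤ 2 ^ a := Nat.pow_le_pow_right (by norm_num) (by omega)
      omega
    have hall : ∀ x ∈ eig (A : Matrix (Fin 4 ⊕ Fin 4) (Fin 4 ⊕ Fin 4) F), x ≠ 1 → x ∈ O ∨ x ∈ P := fun x hx hx1 => by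
      by_contra hxx
      push Not at hxx
      obtain ⟨f, R, hR⟩ := orb_exists A hx hx1
      have := weight_three A hO hP hR hy hyO hx hxx.1 hxx.2
      have := Multiset.count_pos.2 hx
      have := hR.one_le
      nlinarith
    have key : ∀ n, y ^ n = 1 → ∀ x ∈ eig (A : Matrix (Fin 4 ⊕ Fin 4) (Fin 4 ⊕ Fin 4) F), x ≠ 1 →
        x ^ Nat.lcm (q ^ 2 + 1) n = 1 := fun n hn x hx hx1 =>
      (hall x hx hx1).elim (fun h => pow_of_dvd (Nat.dvd_lcm_left _ _) (hO.pow x h _ hbP))
        (fun h => pow_of_dvd (Nat.dvd_lcm_right _ _) (hP.pow x h _ hn))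
    rcases orb_exponent A hP hy with h | h <;> rw [pow_one] at h
    · exact fin _ 1 (Nat.lcm_pos (by omega) (by omega)) (by omega) (by unfold IsBound; simp) (key _ h)
    · exact fin _ 1 (Nat.lcm_pos (by omega) (by omega)) (by omega) (by unfold IsBound; simp) (key _ h)
  · have ha0 : a = 0 := by
      by_contra h0
      have := ha (by omega)
      have : 2 ^ 1 ≤ 2 ^ a := Nat.pow_le_pow_right (by norm_num) (by omega)
      omega
    have hall : ∀ x ∈ eig (A : Matrix (Fin 4 ⊕ Fin 4) (Fin 4 ⊕ Fin 4) F), x ≠ 1 → x ∈ O := fun x hx hx1 => by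
      by_contra hxP
      obtain ⟨f, R, hR⟩ := orb_exists A hx hx1
      have := weight_two A hO hR hx hxP
      have := Multiset.count_pos.2 hx
      have := hR.one_le
      nlinarith
    rcases orb_exponent A hO hb with h | h
    · exact fin (q ^ 3 - 1) 1 (by omega) (by omega) (by unfold IsBound; simp) fun x hx hx1 => hO.pow x (hall x hx hx1) _ h
    · exact fin (q ^ 3 + 1) 1 (by omega) (by omega) (by unfold IsBound; simp) fun x hx hx1 => hO.pow x (hall x hx hx1) _ h

end CfsgLib.Classical.MinusEightSpec
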