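import Mathlib
import Cfsg.Agent.Lib.Classical.MinusEightSpec.DoubleBound
import Cfsg.Agent.Lib.Classical.MinusEightSpec.CoverElements
import Cfsg.Agent.Lib.Perm.Elusive.OrthTorus

/-!
# `V^k ⋊ Ω⁻(8, q)` has the element orders of `PSp(8, q)`, `q` even
-/

set_option autoImplicit false
set_option linter.all false

namespace CfsgLib.Classical.MinusEightSpec

open Matrix CfsgLib.Perm.Elusive CfsgLib.Classical CfsgLib.Sp

variable {F : Type*} [Field F] [Fintype F] [CharP F 2]

local notation "q" => Fintype.card F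
local notation "W8" => (Fin 4 ⊕ Fin 4 → F)
local notation "M8" => Matrix (Fin 4 ⊕ Fin 4) (Fin 4 ⊕ Fin 4) F

/-- a minus form with the symplectic form as polar form, up to a scalar -/
noncomputable def formEight (a b : F) (ha : a ≠ 0) : QuadraticForm F (Fin 4 ⊕ Fin 4 → F) :=
  (minusQ 3 F a b).comp (spCoord a ha).symm.toLinearMap

variable {a b : F} (hab : ∀ z₁ z₂ : F, z₁ ^ 2 + a * z₁ * z₂ + b * z₂ ^ 2 = 0 → z₁ = 0 ∧ z₂ = 0) {ha : a ≠ 0}

theorem polar_formEight (u v : W8) :
    QuadraticMap.polar (formEight a b ha) u v = a * Cfsg.sympForm 4 F u v := by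
  have h := polar_minus (b := b) ha ((spCoord a ha).symm u) ((spCoord a ha).symm v)
  rw [LinearEquiv.apply_symm_apply, LinearEquiv.apply_symm_apply] at h
  rw [← h, ← minusQ_coe]
  simp [formEight, QuadraticMap.polar]

theorem formEight_nondeg : (QuadraticMap.polarBilin (formEight a b ha)).Nondegenerate :=
  nondeg_of_polar fun x hx => eq_zero_of_sf fun y => by
    have := hx y
    rw [polar_formEight] at this
    exact (mul_eq_zero.1 this).resolve_left ha

include hab in
theorem formEight_not_plus : ¬ QPlus (formEight a b ha) ⊤ := fun h =>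
  not_qplus_top_minusQ (k := 3) hab
    ((qplus_equiv (Q := minusQ 3 F a b) (S := formEight a b ha) (spCoord a ha).symm fun v => rfl).2 h)

/-- the group `Ω` of the minus form -/
noncomputable abbrev omEight (a b : F) (ha : a ≠ 0) : Subgroup (GL (Fin 4 ⊕ Fin 4) F) :=
  Cfsg.Geo.omegaGL (ι := Fin 4 ⊕ Fin 4) (⇑(formEight a b ha))

theorem omega_mem_iso {g : GL (Fin 4 ⊕ Fin 4) F} (hg : g ∈ (omEight a b ha)) : g ∈ Cfsg.isometryGroup F ⇑(formEight a b ha) := by
  obtain ⟨g', -, rfl⟩ := Subgroup.mem_map.1 hg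
  exact g'.2

theorem omega_sp {g : GL (Fin 4 ⊕ Fin 4) F} (hg : g ∈ (omEight a b ha)) : (g : M8) ∈ Matrix.symplecticGroup (Fin 4) F := by
  rw [mem_sp_iff]
  intro u v
  refine mul_left_cancel₀ ha ?_
  show a * Cfsg.sympForm 4 F _ _ = a * Cfsg.sympForm 4 F _ _
  rw [← polar_formEight (b := b) (ha := ha), ← polar_formEight (b := b) (ha := ha)]
  exact polar_isometry (omega_mem_iso hg) u v

theorem omega_ker_even {g : GL (Fin 4 ⊕ Fin 4) F} (hg : g ∈ (omEight a b ha)) :
    Even (Module.finrank F (LinearMap.ker (Matrix.toLin' (g : M8) - 1))) := by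
  obtain ⟨g', hg', rfl⟩ := Subgroup.mem_map.1 hg
  simp only [Subgroup.coe_subtype]
  have h := ((CfsgLib.Orth.mem_omega_iff (CfsgLib.Orth.nd_of_qf _ (formEight_nondeg (a := a) (b := b) (ha := ha)))
    (by simp) (Or.inr (by simp)) g').1 hg').2
  have hw : CfsgLib.Orth.wrk (g' : GL (Fin 4 ⊕ Fin 4) F) =
      Module.finrank F (LinearMap.range (Matrix.toLin' ((g' : GL (Fin 4 ⊕ Fin 4) F) : M8) - 1)) := by
    rw [CfsgLib.Orth.wrk, CfsgLib.Orth.moved, show CfsgLib.Orth.disp (g' : GL (Fin 4 ⊕ Fin 4) F) =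
      -(Matrix.toLin' ((g' : GL (Fin 4 ⊕ Fin 4) F) : M8) - 1) from LinearMap.ext fun v => by
      simp [CfsgLib.Orth.disp_apply, Matrix.toLin'_apply], LinearMap.range_neg]
  rw [hw] at h
  have h8 := LinearMap.finrank_range_add_finrank_ker (Matrix.toLin' ((g' : GL (Fin 4 ⊕ Fin 4) F) : M8) - 1)
  rw [Module.finrank_fintype_fun_eq_card] at h8
  rw [Fintype.card_sum, Fintype.card_fin] at h8
  obtain ⟨i, hi⟩ := h
  have h9 : i + i + Module.finrank F (LinearMap.ker (Matrix.toLin' ((g' : GL (Fin 4 ⊕ Fin 4) F) : M8) - 1)) = 8 :=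
    (congrArg (· + _) hi.symm).trans h8
  have h10 : Module.finrank F (LinearMap.ker (Matrix.toLin' ((g' : GL (Fin 4 ⊕ Fin 4) F) : M8) - 1)) = 4 - i + (4 - i) := by
    omega
  exact ⟨4 - i, h10⟩

/-- an endomorphism as an invertible matrix -/
theorem exists_gl (f : Module.End F W8) (hI : ∀ v, formEight a b ha (f v) = formEight a b ha v) :
    ∃ g : GL (Fin 4 ⊕ Fin 4) F, g ∈ Cfsg.isometryGroup F ⇑(formEight a b ha) ∧
      (g : M8) = LinearMap.toMatrixAlgEquiv' f := by
  have hinj : Function.Injective f := by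
    refine (injective_iff_map_eq_zero f).2 fun v hv => (formEight_nondeg (a := a) (b := b) (ha := ha)).1 v fun y => ?_
    show QuadraticMap.polar (formEight a b ha) v y = 0
    rw [← CfsgLib.Perm.Elusive.polar_map hI, hv]
    simp [QuadraticMap.polar]
  have hu : IsUnit (LinearMap.toMatrixAlgEquiv' f) :=
    ((Module.End.isUnit_iff f).2 ⟨hinj, LinearMap.surjective_of_injective hinj⟩).map LinearMap.toMatrixAlgEquiv'
  refine ⟨hu.unit, mem_isometryGroup_iff.2 fun v => ?_, IsUnit.unit_spec hu⟩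
  rw [IsUnit.unit_spec, show LinearMap.toMatrixAlgEquiv' f *ᵥ v = f v from LinearMap.toMatrix'_mulVec f v]
  exact hI v

include hab in
/-- the elements inside `Ω` -/
theorem exists_omega_elt {t : ℕ} (ht : IsBound q t) :
    ∃ g ∈ (omEight a b ha), t ∣ orderOf g ∨ ∃ (n s : ℕ) (v : W8),
      g ^ n = 1 ∧ (∑ i ∈ Finset.range n, (g : M8) ^ i) *ᵥ v ≠ 0 ∧ Odd s ∧
      (∃ e, n = s * 2 ^ e ∧ t ∣ orderOf (g ^ 2 ^ e) * 2 ^ (e + 1)) := by
  obtain ⟨Q, hQ, hQp, H⟩ := hasCov_bound (F := F) ht
  have h4 : Module.finrank F (Fin (2 * 4) → F) = 2 * (3 + 1) := Module.finrank_fin_fun F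
  obtain ⟨-, L, hL⟩ := (qplus_cases (qnd_top hQ) (k := 3) (by rw [finrank_top, h4]) hab).resolve_left fun h => hQp h.1
  let L' : (Fin (2 * 4) → F) ≃ₗ[F] W8 := (L.trans (LinearEquiv.ofTop ⊤ rfl)).symm.trans (spCoord a ha)
  have hL' : ∀ v, formEight a b ha (L' v) = Q v := fun v => by
    have := hL ((L.trans (LinearEquiv.ofTop ⊤ rfl)).symm v)
    rw [← minusQ_coe] at this
    simp only [formEight, L', QuadraticMap.comp_apply, LinearEquiv.coe_coe, LinearEquiv.trans_apply,
      LinearEquiv.symm_apply_apply]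
    rw [← this]
    congr 1
    simp
  let c : Module.End F (Fin (2 * 4) → F) ≃ₐ[F] M8 := (L'.conjAlgEquiv F).trans LinearMap.toMatrixAlgEquiv'
  have mk : ∀ f : Module.End F (Fin (2 * 4) → F), (∀ v, Q (f v) = Q v) →
      ∃ g : GL (Fin 4 ⊕ Fin 4) F, g ∈ Cfsg.isometryGroup F ⇑(formEight a b ha) ∧ (g : M8) = c f := fun f hf =>
    exists_gl (L'.conjAlgEquiv F f) fun v => by
      obtain ⟨v, rfl⟩ := L'.surjective v
      simp [hL', hf]
  have hco : ∀ f, orderOf (c f) = orderOf f := fun f => MulEquiv.orderOf_eq c.toMulEquiv f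
  have hnd := CfsgLib.Orth.nd_of_qf _ (formEight_nondeg (a := a) (b := b) (ha := ha))
  rcases H with ⟨f, r, hr, hfr, hI, hd⟩ | ⟨f, u, r, e, hr, hfr, hIf, hIu, hfu, hue, hK, hS, hd⟩
  · obtain ⟨g, hg, hgc⟩ := mk f hI
    refine ⟨g, mem_omega_of_odd hnd (by simp) hg hr (Units.ext ?_), Or.inl ?_⟩
    · rw [Units.val_pow_eq_pow_val, hgc, ← map_pow, hfr, map_one, Units.val_one]
    · rwa [← orderOf_units, hgc, hco]
  · obtain ⟨g, hg, hgc⟩ := mk f hIf
    obtain ⟨w, hw, hwc⟩ := mk u hIu
    have hgO : g ∈ (omEight a b ha) := mem_omega_of_odd hnd (by simp) hg hr (Units.ext (by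
      rw [Units.val_pow_eq_pow_val, hgc, ← map_pow, hfr, map_one, Units.val_one]))
    have hwO : w ∈ (omEight a b ha) := by
      refine omega_of_even_rank CharTwo.two_eq_zero (formEight_nondeg (a := a) (b := b) (ha := ha)) (by simp) hw ?_
      have hk : Even (Module.finrank F (LinearMap.ker (Matrix.toLin' (w : M8) - 1))) := by
        rw [hwc, show Matrix.toLin' (c u) = L'.conjAlgEquiv F u from Matrix.toLin'_toMatrix' (L'.conjAlgEquiv F u), finrank_ker_conj]
        exact hK
      have h8 := LinearMap.finrank_range_add_finrank_ker (Matrix.toLin' (w : M8) - 1)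
      rw [Module.finrank_fintype_fun_eq_card] at h8
      simp at h8
      obtain ⟨i, hi⟩ := hk
      exact ⟨4 - i, by omega⟩
    obtain ⟨v, hv⟩ : ∃ v, (∑ i ∈ Finset.range (r * 2 ^ e), ((g * w : GL (Fin 4 ⊕ Fin 4) F) : M8) ^ i) *ᵥ v ≠ 0 := by
      by_contra h
      push Not at h
      have h0 : (∑ i ∈ Finset.range (r * 2 ^ e), ((g * w : GL (Fin 4 ⊕ Fin 4) F) : M8) ^ i) = 0 :=
        Matrix.ext_iff_mulVec.2 fun v => by rw [h v, Matrix.zero_mulVec]
      rw [Units.val_mul, hgc, hwc, ← map_mul] at h0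
      simp only [← map_pow, ← map_sum] at h0
      exact hS ((map_eq_zero_iff c c.injective).1 h0)
    refine ⟨g * w, mul_mem hgO hwO, Or.inr ⟨r * 2 ^ e, r, v, Units.ext ?_, hv, hr, e, rfl, ?_⟩⟩
    · rw [Units.val_pow_eq_pow_val, Units.val_mul, hgc, hwc, ← map_mul, ← map_pow, hfu.mul_pow, Units.val_one,
        pow_mul f, hfr, one_pow, one_mul, mul_comm r, pow_mul, hue, one_pow, map_one]
    · have h1 : (g * w) ^ 2 ^ e = g ^ 2 ^ e := Units.ext (by
        rw [Units.val_pow_eq_pow_val, Units.val_pow_eq_pow_val, Units.val_mul, hgc, hwc, ← map_mul, ← map_pow,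
          hfu.mul_pow, hue, mul_one, map_pow])
      have hcp : (orderOf f).Coprime (2 ^ e) :=
        Nat.Coprime.pow_right e (Nat.coprime_two_right.2 (hr.of_dvd_nat (orderOf_dvd_of_pow_eq_one hfr)))
      rw [h1, orderOf_pow' g (pow_ne_zero e two_ne_zero), ← orderOf_units, hgc, hco, hcp.gcd_eq_one, Nat.div_one]
      exact hd

/-! ### the semidirect product -/

local notation "VK" k => Multiplicative (Fin k → W8)

/-- the action on `k` copies of the natural module -/
noncomputable def natAct (D : Subgroup (GL (Fin 4 ⊕ Fin 4) F)) (k : ℕ) :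
    D →* MulAut (Multiplicative (Fin k → W8)) where
  toFun g := AddEquiv.toMultiplicative
    { toFun := fun v j => ((g : GL (Fin 4 ⊕ Fin 4) F) : M8) *ᵥ v j
      invFun := fun v j => (((g : GL (Fin 4 ⊕ Fin 4) F)⁻¹ : GL (Fin 4 ⊕ Fin 4) F) : M8) *ᵥ v j
      left_inv := fun v => funext fun j => by simp only; rw [Matrix.mulVec_mulVec, ← Units.val_mul, inv_mul_cancel, Units.val_one, Matrix.one_mulVec]
      right_inv := fun v => funext fun j => by simp only; rw [Matrix.mulVec_mulVec, ← Units.val_mul, mul_inv_cancel, Units.val_one, Matrix.one_mulVec]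
      map_add' := fun v w => funext fun j => Matrix.mulVec_add _ _ _ }
  map_one' := MulEquiv.ext fun v => by
    refine Multiplicative.toAdd.injective (funext fun j => ?_)
    show ((1 : GL (Fin 4 ⊕ Fin 4) F) : M8) *ᵥ Multiplicative.toAdd v j = Multiplicative.toAdd v j
    rw [Units.val_one, Matrix.one_mulVec]
  map_mul' g h := MulEquiv.ext fun v => by
    refine Multiplicative.toAdd.injective (funext fun j => ?_)
    show (((g : GL (Fin 4 ⊕ Fin 4) F) * (h : GL (Fin 4 ⊕ Fin 4) F) : GL (Fin 4 ⊕ Fin 4) F) : M8) *ᵥ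
      Multiplicative.toAdd v j = _
    rw [Units.val_mul, ← Matrix.mulVec_mulVec]
    rfl

theorem natAct_apply (D : Subgroup (GL (Fin 4 ⊕ Fin 4) F)) (k : ℕ) (g : D) (v : Multiplicative (Fin k → W8))
    (j : Fin k) : Multiplicative.toAdd (natAct D k g v) j = ((g : GL (Fin 4 ⊕ Fin 4) F) : M8) *ᵥ Multiplicative.toAdd v j := rfl

theorem pow_left_formula (D : Subgroup (GL (Fin 4 ⊕ Fin 4) F)) (k : ℕ)
    (x : Multiplicative (Fin k → W8) ⋊[natAct D k] D) (n : ℕ) (j : Fin k) :
    Multiplicative.toAdd (x ^ n).left j =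
      (∑ i ∈ Finset.range n, ((x.right : GL (Fin 4 ⊕ Fin 4) F) : M8) ^ i) *ᵥ Multiplicative.toAdd x.left j := by
  induction n with
  | zero => simp
  | succ n ih =>
    rw [pow_succ', SemidirectProduct.mul_left, toAdd_mul, Pi.add_apply, natAct_apply, ih, Matrix.mulVec_mulVec,
      Finset.sum_range_succ', Matrix.add_mulVec, pow_zero, Matrix.one_mulVec, Finset.mul_sum, add_comm]
    simp only [pow_succ']

theorem pow_right (D : Subgroup (GL (Fin 4 ⊕ Fin 4) F)) (k : ℕ)
    (x : Multiplicative (Fin k → W8) ⋊[natAct D k] D) (n : ℕ) : (x ^ n).right = x.right ^ n :=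
  map_pow (SemidirectProduct.rightHom (φ := natAct D k)) x n

include hab in
/-- divisors of the numbers of the list are element orders -/
theorem mem_spectrum {t n : ℕ} (ht : IsBound q t) (hn : n ∣ t) : n ∈ Set.range (orderOf : Cfsg.PSp 4 F → ℕ) := by
  rw [spectrum_eq hab]
  obtain ⟨x, hx⟩ := exists_dvd_order hab (has_bound ht)
  exact ⟨x ^ (orderOf x / n), orderOf_pow_orderOf_div (orderOf_pos x).ne' (hn.trans hx)⟩

include hab in
/-- the spectrum of the semidirect product -/
theorem cover_spectrum {k : ℕ} (hk : 1 ≤ k) :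
    Set.range (orderOf : Multiplicative (Fin k → W8) ⋊[natAct (omEight a b ha) k] (omEight a b ha) → ℕ) =
      Set.range (orderOf : Cfsg.PSp 4 F → ℕ) := by
  classical
  refine Set.Subset.antisymm ?_ ?_
  · rintro _ ⟨x, rfl⟩
    obtain ⟨g, hg⟩ : ∃ g : GL (Fin 4 ⊕ Fin 4) F, g = x.right := ⟨_, rfl⟩
    have hgO : g ∈ (omEight a b ha) := hg ▸ x.right.2
    let A : Matrix.symplecticGroup (Fin 4) F := ⟨(g : M8), omega_sp hgO⟩
    obtain ⟨n, hn⟩ : ∃ n, n = orderOf g := ⟨_, rfl⟩
    have hAn : orderOf A = n := by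
      rw [hn, ← orderOf_injective (Matrix.symplecticGroup (Fin 4) F).subtype Subtype.val_injective A, ← orderOf_units]
      rfl
    have hgn : x.right ^ n = 1 := Subtype.ext (by rw [SubmonoidClass.coe_pow, ← hg, hn, pow_orderOf_eq_one]; rfl)
    have hdvd : n ∣ orderOf x := by
      rw [hn]
      refine orderOf_dvd_of_pow_eq_one ?_
      have := congrArg (fun y => ((SemidirectProduct.right y : (omEight a b ha)) : GL (Fin 4 ⊕ Fin 4) F)) (pow_orderOf_eq_one x)
      simp only [pow_right, SemidirectProduct.one_right, SubmonoidClass.coe_pow, OneMemClass.coe_one, ← hg] at this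
      exact this
    by_cases hall : ∀ j, (∑ i ∈ Finset.range n, (g : M8) ^ i) *ᵥ Multiplicative.toAdd x.left j = 0
    · have hx : x ^ n = 1 := by
        refine SemidirectProduct.ext (Multiplicative.toAdd.injective (funext fun j => ?_)) ?_
        · rw [pow_left_formula, ← hg, hall]
          rfl
        · rw [pow_right, hgn]; rfl
      rw [Nat.dvd_antisymm (orderOf_dvd_of_pow_eq_one hx) hdvd, ← hAn]
      exact ⟨pr A, orderOf_pr A⟩
    push Not at hall
    obtain ⟨j, hj⟩ := hall
    have h2n : x ^ (n * 2) = 1 := by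
      rw [pow_mul]
      refine SemidirectProduct.ext (Multiplicative.toAdd.injective (funext fun i => ?_)) ?_
      · rw [pow_left_formula, pow_right, hgn]
        simp [Finset.sum_range_succ, one_add_one_eq_two, CharTwo.two_eq_zero]
      · rw [pow_right, pow_right, hgn, one_pow]; rfl
    have hne : ¬ orderOf x ∣ n := fun h => hj (by
      have := congrArg (fun y : Multiplicative (Fin k → W8) ⋊[natAct (omEight a b ha) k] (omEight a b ha) =>
        Multiplicative.toAdd y.left j) (orderOf_dvd_iff_pow_eq_one.1 h)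
      simp only [pow_left_formula, ← hg] at this
      exact this)
    have hox : orderOf x = n * 2 := by
      obtain ⟨d, hd⟩ := hdvd
      have hnpos : 0 < n := hn ▸ orderOf_pos g
      have h1 := orderOf_dvd_of_pow_eq_one h2n
      rw [hd] at h1 hne ⊢
      rcases (Nat.dvd_prime Nat.prime_two).1 ((Nat.mul_dvd_mul_iff_left hnpos).1 h1) with h | h
      · exact absurd (by rw [h, mul_one]) hne
      · rw [h]
    obtain ⟨e, m, hm, hem⟩ := Nat.exists_eq_two_pow_mul_odd (show n ≠ 0 from (hn ▸ orderOf_pos g).ne')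
    rw [hem] at hj
    obtain ⟨w, hw, hw0⟩ := geom_vector (Matrix.toLin' (g : M8)) (a := e) (m := m) (v := Multiplicative.toAdd x.left j)
      (by rw [← hem, ← Matrix.toLin'_pow, hn, ← Units.val_pow_eq_pow_val, pow_orderOf_eq_one, Units.val_one, Matrix.toLin'_one]; rfl)
      (by
        intro h0
        refine hj ?_
        rw [← Matrix.toLin'_apply, map_sum]
        simpa [Matrix.toLin'_pow] using h0)
    obtain ⟨hk1, hk2⟩ := chain_bound (Matrix.toLin' (g : M8)) Nat.one_le_two_pow hw hw0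
    obtain ⟨i, hi⟩ := omega_ker_even hgO
    obtain ⟨c, hc⟩ := count_one_even A
    have hc1 := count_one_eq (g : M8)
    have hcA : Multiset.count (1 : AlgebraicClosure F) (RootOrbits.eig (A : M8)) =
        Module.finrank F (Module.End.maxGenEigenspace (Matrix.toLin' (g : M8)) (1 : F)) := hc1
    obtain ⟨t, ht, hdt⟩ := double_bound A (a := e) (m := m) hm (hAn.trans hem) (by rw [hcA]; omega) (fun he => by
      have : 2 ∣ 2 ^ e := dvd_pow_self 2 (by omega)
      have : 1 ≤ 2 ^ e := Nat.one_le_two_pow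
      omega)
    refine mem_spectrum hab ht ?_
    rw [hox, hem, mul_right_comm, ← pow_succ]
    exact hdt
  · rintro _ ⟨y, rfl⟩
    obtain ⟨A, rfl⟩ : ∃ A, pr A = y := QuotientGroup.mk'_surjective _ y
    rw [orderOf_pr]
    obtain ⟨t, ht, hAt⟩ := exists_bound A
    haveI : Finite (Multiplicative (Fin k → W8) ⋊[natAct (omEight a b ha) k] (omEight a b ha)) :=
      Finite.of_equiv _ SemidirectProduct.equivProd.symm
    suffices h : ∃ x : Multiplicative (Fin k → W8) ⋊[natAct (omEight a b ha) k] (omEight a b ha), t ∣ orderOf x by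
      obtain ⟨x, hx⟩ := h
      exact ⟨x ^ (orderOf x / orderOf A), orderOf_pow_orderOf_div
        (orderOf_pos x).ne' ((orderOf_dvd_of_pow_eq_one hAt).trans hx)⟩
    obtain ⟨g, hgO, hd | ⟨n, r, v, hgn, hv, hr, e, hne, hd⟩⟩ := exists_omega_elt hab (ha := ha) ht
    · refine ⟨SemidirectProduct.inr ⟨g, hgO⟩, hd.trans ?_⟩
      rw [orderOf_injective _ SemidirectProduct.inr_injective, Subgroup.orderOf_mk]
    · let x : Multiplicative (Fin k → W8) ⋊[natAct (omEight a b ha) k] (omEight a b ha) := ⟨Multiplicative.ofAdd fun _ => v, ⟨g, hgO⟩⟩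
      refine ⟨x, hd.trans ?_⟩
      have h1 : orderOf (g ^ 2 ^ e) ∣ orderOf x := by
        refine orderOf_dvd_of_pow_eq_one ?_
        have := congrArg (fun y => ((SemidirectProduct.right y : (omEight a b ha)) : GL (Fin 4 ⊕ Fin 4) F)) (pow_orderOf_eq_one x)
        simp only [pow_right, SemidirectProduct.one_right, SubmonoidClass.coe_pow, OneMemClass.coe_one] at this
        rw [← pow_mul, mul_comm, pow_mul, show g ^ orderOf x = 1 from this, one_pow]
      have hodd : Odd (orderOf (g ^ 2 ^ e)) :=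
        hr.of_dvd_nat (orderOf_dvd_of_pow_eq_one (by rw [← pow_mul, mul_comm, ← hne, hgn]))
      have h2 : 2 ^ (e + 1) ∣ orderOf x := by
        obtain ⟨i, s, hs, his⟩ := Nat.exists_eq_two_pow_mul_odd (orderOf_pos x).ne'
        rw [his]
        refine dvd_mul_of_dvd_left (pow_dvd_pow 2 ?_) s
        by_contra hlt
        have hxn : x ^ n = 1 := by
          rw [← orderOf_dvd_iff_pow_eq_one, his, hne]
          have h2n : x ^ (n * 2) = 1 := by
            rw [pow_mul]
            refine SemidirectProduct.ext (Multiplicative.toAdd.injective (funext fun j => ?_)) ?_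
            · rw [pow_left_formula, pow_right, show x.right ^ n = 1 from Subtype.ext (by simpa [x] using hgn)]
              simp [Finset.sum_range_succ, one_add_one_eq_two, CharTwo.two_eq_zero]
            · rw [pow_right, pow_right, show x.right ^ n = 1 from Subtype.ext (by simpa [x] using hgn), one_pow]
              rfl
          have h3 := orderOf_dvd_of_pow_eq_one h2n
          rw [his, hne] at h3
          have h4 : s ∣ r * 2 ^ e * 2 := dvd_trans (dvd_mul_left _ _) h3
          rw [mul_assoc, ← pow_succ] at h4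
          rw [mul_comm r]
          exact mul_dvd_mul (pow_dvd_pow 2 (by omega))
            ((Nat.Coprime.pow_right _ (Nat.coprime_two_right.2 hs)).dvd_of_dvd_mul_right h4)
        have := congrArg (fun y : Multiplicative (Fin k → W8) ⋊[natAct (omEight a b ha) k] (omEight a b ha) =>
          Multiplicative.toAdd y.left ⟨0, hk⟩) hxn
        simp only [pow_left_formula] at this
        exact hv (by simpa [x] using this)
      exact (Nat.Coprime.pow_right _ (Nat.coprime_two_right.2 hodd)).mul_dvd_of_dvd_of_dvd h1 h2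

/-- a finite group is modelled in universe zero -/
theorem exists_fin_model (G : Type*) [Group G] [Finite G] :
    ∃ (T : Type) (_ : Group T) (_ : Fintype T),
      Fintype.card T = Nat.card G ∧ Set.range (orderOf : T → ℕ) = Set.range (orderOf : G → ℕ) := by
  classical
  let e : G ≃ {i : Fin (Nat.card G) // True} := (Finite.equivFin G).trans (Equiv.subtypeUnivEquiv fun _ => trivial).symm
  letI : Group {i : Fin (Nat.card G) // True} := e.symm.group
  let φ : {i : Fin (Nat.card G) // True} ≃* G := { e.symm with map_mul' := fun x y => e.symm.apply_symm_apply _ }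
  refine ⟨{i : Fin (Nat.card G) // True}, inferInstance, inferInstance, ?_, Set.ext fun n => ⟨?_, ?_⟩⟩
  · rw [Fintype.card_congr (Equiv.subtypeUnivEquiv fun _ => trivial), Fintype.card_fin]
  · rintro ⟨x, rfl⟩
    exact ⟨φ x, MulEquiv.orderOf_eq φ x⟩
  · rintro ⟨x, rfl⟩
    exact ⟨φ.symm x, MulEquiv.orderOf_eq φ.symm x⟩

/-- a group in universe zero -/
theorem exists_small (M : ℕ) :
    ∃ (H : Type) (_ : Group H) (_ : Fintype H), M < Fintype.card H ∧
      Set.range (orderOf : H → ℕ) = Set.range (orderOf : Cfsg.PSp 4 F → ℕ) := by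
  classical
  obtain ⟨a, b, hab⟩ := CfsgLib.IsometryConj.exists_anisotropic_binary (F := F)
  have ha := a_ne_zero hab
  haveI : Finite (Multiplicative (Fin (M + 1) → W8) ⋊[natAct (omEight a b ha) (M + 1)] (omEight a b ha)) :=
    Finite.of_equiv _ SemidirectProduct.equivProd.symm
  obtain ⟨T, iT, fT, hc, hs⟩ :=
    exists_fin_model (Multiplicative (Fin (M + 1) → W8) ⋊[natAct (omEight a b ha) (M + 1)] (omEight a b ha))
  refine ⟨T, iT, fT, ?_, hs.trans (cover_spectrum hab (ha := ha) (k := M + 1) (by omega))⟩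
  rw [hc, Nat.card_congr SemidirectProduct.equivProd, Nat.card_prod]
  refine lt_of_lt_of_le ?_ (Nat.le_mul_of_pos_right _ Nat.card_pos)
  rw [Nat.card_congr Multiplicative.toAdd, Nat.card_fun, Nat.card_eq_fintype_card (α := Fin (M + 1)), Fintype.card_fin]
  have h2 : 2 ≤ Nat.card W8 := by
    rw [Nat.card_fun, Nat.card_eq_fintype_card (α := F)]
    exact le_trans Fintype.one_lt_card (Nat.le_self_pow (by simp) _)
  exact lt_of_lt_of_le ((Nat.lt_succ_self M).trans Nat.lt_two_pow_self) (Nat.pow_le_pow_left h2 _)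

end CfsgLib.Classical.MinusEightSpec
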